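import Mathlib.Combinatorics.SimpleGraph.StronglyRegular
import Mathlib.LinearAlgebra.Matrix.Charpoly.FiniteField
import Mathlib.LinearAlgebra.Trace
import Mathlib.LinearAlgebra.Matrix.ToLin

/-!
The strongly regular graphs on 77 vertices whose valencies divide 5760 together have parameters
(77, 16, 0, 4): the other sets with valency 36 fail a trace condition.
-/

set_option autoImplicit false

namespace Cfsg.Agent.Order443520

open Matrix

variable {V : Type*} [Fintype V] [DecidableEq V] {Γ : SimpleGraph V} [DecidableRel Γ.Adj]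

/-- The all-one matrix. -/
def allOne (V α : Type*) [One α] : Matrix V V α := Matrix.of fun _ _ => 1

theorem allOne_sq {α : Type*} [CommRing α] :
    allOne V α * allOne V α = (Fintype.card V : α) • allOne V α := by
  ext x y
  simp [allOne, Matrix.mul_apply]

theorem adj_mul_allOne {α : Type*} [CommRing α] {k : ℕ} (h : Γ.IsRegularOfDegree k) :
    Γ.adjMatrix α * allOne V α = (k : α) • allOne V α := by
  ext x y
  simp [allOne, SimpleGraph.adjMatrix_mul_apply, h x]

theorem allOne_mul_adj {α : Type*} [CommRing α] {k : ℕ} (h : Γ.IsRegularOfDegree k) :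
    allOne V α * Γ.adjMatrix α = (k : α) • allOne V α := by
  ext x y
  simp [allOne, SimpleGraph.mul_adjMatrix_apply, h y]

theorem adj_sq {α : Type*} [CommRing α] {n k l m : ℕ} (h : Γ.IsSRGWith n k l m) :
    Γ.adjMatrix α * Γ.adjMatrix α = ((l : α) - m) • Γ.adjMatrix α + ((k : α) - m) • (1 : Matrix V V α) +
      (m : α) • allOne V α := by
  have he := h.matrix_eq (α := α)
  rw [pow_two] at he
  rw [he, ← Nat.cast_smul_eq_nsmul α k, ← Nat.cast_smul_eq_nsmul α l, ← Nat.cast_smul_eq_nsmul α m]
  ext x y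
  rcases eq_or_ne x y with rfl | hne
  · simp [allOne, SimpleGraph.adjMatrix_apply, Matrix.add_apply]
  · by_cases ha : Γ.Adj x y <;>
      simp [allOne, SimpleGraph.adjMatrix_apply, Matrix.add_apply, Matrix.one_apply_ne hne, hne, ha]

/-- The trace of an idempotent rational matrix is a natural number. -/
theorem trace_idem {E : Matrix V V ℚ} (hE : E * E = E) : ∃ r : ℕ, E.trace = r := by
  have hp : LinearMap.IsProj (LinearMap.range (Matrix.toLin' E)) (Matrix.toLin' E) :=
    ⟨fun x => LinearMap.mem_range_self _ x, fun x hx => by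
      obtain ⟨y, rfl⟩ := hx
      rw [← Matrix.toLin'_mul_apply, hE]⟩
  refine ⟨Module.finrank ℚ (LinearMap.range (Matrix.toLin' E)), ?_⟩
  rw [← hp.trace, LinearMap.trace_eq_matrix_trace ℚ (Pi.basisFun ℚ V)]
  congr 1
  rw [← Matrix.toLin_eq_toLin', LinearMap.toMatrix_toLin]

theorem not_18 (h : Γ.IsSRGWith 77 36 15 18) : False := by
  set A := Γ.adjMatrix ℚ with hA
  set J := allOne V ℚ with hJ
  have h2 : A * A = (-3 : ℚ) • A + (18 : ℚ) • (1 : Matrix V V ℚ) + (18 : ℚ) • J := by
    rw [hA, hJ, adj_sq h]; norm_num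
  have hAJ : A * J = (36 : ℚ) • J := by rw [hA, hJ, adj_mul_allOne h.regular]; norm_num
  have hJA : J * A = (36 : ℚ) • J := by rw [hA, hJ, allOne_mul_adj h.regular]; norm_num
  have hJJ : J * J = (77 : ℚ) • J := by rw [hJ, allOne_sq, h.card]; norm_num
  set E := (1 / 9 : ℚ) • (A + (6 : ℚ) • 1 - (6 / 11 : ℚ) • J) with hE
  have hEE : E * E = E := by
    rw [hE]
    simp only [smul_mul_assoc, mul_smul_comm, sub_mul, mul_sub, add_mul, mul_add, one_mul, mul_one,
      h2, hAJ, hJA, hJJ]
    module
  obtain ⟨r, hr⟩ := trace_idem hEE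
  have htr : E.trace = 140 / 3 := by
    rw [hE, Matrix.trace_smul, Matrix.trace_sub, Matrix.trace_add, Matrix.trace_smul, Matrix.trace_smul,
      Matrix.trace_one, hA, SimpleGraph.trace_adjMatrix, h.card]
    have : J.trace = 77 := by simp [hJ, allOne, Matrix.trace, h.card]
    rw [this]
    norm_num
  rw [htr] at hr
  have h3 : ((140 : ℕ) : ℚ) = ((3 * r : ℕ) : ℚ) := by push_cast; rw [← hr]; norm_num
  have := Nat.cast_injective (R := ℚ) h3
  omega

/-- The coefficients of the powers of the adjacency matrix. -/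
def coef {α : Type*} [CommRing α] (k l m : α) : ℕ → α × α × α
  | 0 => (0, 1, 0)
  | n + 1 =>
    let p := coef k l m n
    (p.1 * (l - m) + p.2.1, p.1 * (k - m), p.1 * m + p.2.2 * k)

theorem pow_eq {α : Type*} [CommRing α] {n k l m : ℕ} (h : Γ.IsSRGWith n k l m) : ∀ j : ℕ,
    Γ.adjMatrix α ^ j = (coef (k : α) l m j).1 • Γ.adjMatrix α +
      (coef (k : α) l m j).2.1 • (1 : Matrix V V α) + (coef (k : α) l m j).2.2 • allOne V α
  | 0 => by simp [coef]
  | j + 1 => by
    rw [pow_succ, pow_eq h j]
    simp only [coef, add_mul, smul_mul_assoc, one_mul, adj_sq h, allOne_mul_adj h.regular]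
    module

theorem trace_mod {p : ℕ} [Fact p.Prime] {n k l m : ℕ} (h : Γ.IsSRGWith n k l m) :
    ((coef (k : ZMod p) l m p).2.1 + (coef (k : ZMod p) l m p).2.2) * n = 0 := by
  have h1 := ZMod.trace_pow_card (Γ.adjMatrix (ZMod p))
  rw [SimpleGraph.trace_adjMatrix, zero_pow (Fact.out : p.Prime).ne_zero, pow_eq h p, Matrix.trace_add,
    Matrix.trace_add, Matrix.trace_smul, Matrix.trace_smul, Matrix.trace_smul, SimpleGraph.trace_adjMatrix,
    Matrix.trace_one, h.card] at h1
  have hJ : (allOne V (ZMod p)).trace = n := by simp [allOne, Matrix.trace, h.card]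
  rw [hJ] at h1
  simp only [smul_eq_mul, mul_zero, zero_add] at h1
  rw [← h1]; ring

instance fact_prime_thirteen : Fact (Nat.Prime 13) := ⟨by decide⟩

theorem not_25 (h : Γ.IsSRGWith 77 36 25 9) : False := by
  have := trace_mod (p := 13) h
  exact absurd this (by decide)

theorem not_5 (h : Γ.IsSRGWith 77 36 5 27) : False := by
  have := trace_mod (p := 13) h
  exact absurd this (by decide)

end Cfsg.Agent.Order443520
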