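import Cfsg.Agent.Lib.Hexad22.RankThree
import Cfsg.Agent.Lib.Order443520.GraphParams

/-!
The suborbit graph of a rank three group on 77 points whose subdegrees divide 5760 has parameters
(77, 16, 0, 4).
-/

set_option autoImplicit false

namespace Cfsg.Agent.Order443520

open Finset MulAction
open Cfsg.Agent.Hexad22 (orbAdj orbAdj_smul orbAdj_iff_mem_orbit card_filter_smul)

variable {G : Type*} [Group G] {Ω : Type*} [Fintype Ω] [DecidableEq Ω] [MulAction G Ω]

/-- The suborbit graph of a rank three group with different subdegrees is strongly regular. -/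
theorem exists_srg_orbit {n k l : ℕ} (hΩ : Fintype.card Ω = n) (hn : n = 1 + k + l) (hkl : k ≠ l)
    [IsPretransitive G Ω] (a b c : Ω) (hab : a ≠ b) (hac : a ≠ c)
    (hb : (orbit (stabilizer G a) b).ncard = k) (hc : (orbit (stabilizer G a) c).ncard = l) :
    ∃ (Γ : SimpleGraph Ω) (_ : DecidableRel Γ.Adj) (p q : ℕ), Γ.IsSRGWith n k p q ∧ p + 1 ≤ k ∧ q ≤ k ∧
      ∀ (g : G) (x y : Ω), Γ.Adj (g • x) (g • y) ↔ Γ.Adj x y := by
  classical
  set A := orbAdj G a b with hA
  have hirr : ∀ x, ¬ A x x := fun x ⟨g, h1, h2⟩ => hab (MulAction.injective g (h1.trans h2.symm))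
  have hout : ∀ x, (univ.filter fun y => A x y).card = k := by
    intro x
    obtain ⟨g, rfl⟩ := exists_smul_eq G a x
    rw [card_filter_smul (fun y => A a y) (fun y => A (g • a) y) g (fun y => orbAdj_smul a b g a y),
      ← hb, ← Set.ncard_coe_finset]
    congr 1
    ext y
    simp only [coe_filter, mem_univ, true_and, Set.mem_ofPred_eq]
    exact orbAdj_iff_mem_orbit a b y
  have hin : (univ.filter fun y => A y a).card = k := by
    have heq : ∀ x ∈ (univ : Finset Ω),
        ((univ : Finset Ω).bipartiteBelow A x).card = (univ.filter fun y => A y a).card := by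
      intro x _
      obtain ⟨g, rfl⟩ := exists_smul_eq G a x
      exact card_filter_smul (fun y => A y a) (fun y => A y (g • a)) g fun y => orbAdj_smul a b g y a
    have h := sum_card_bipartiteAbove_eq_sum_card_bipartiteBelow A (s := univ) (t := univ)
    have hout' : ∀ x ∈ (univ : Finset Ω), ((univ : Finset Ω).bipartiteAbove A x).card = k :=
      fun x _ => hout x
    rw [sum_const_nat hout', sum_const_nat heq, card_univ, hΩ] at h
    exact (Nat.eq_of_mul_eq_mul_left (by omega) h).symm
  have hcover : ∀ y, y = a ∨ y ∈ orbit (stabilizer G a) b ∨ y ∈ orbit (stabilizer G a) c := by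
    have hd : Disjoint (orbit (stabilizer G a) b) (orbit (stabilizer G a) c) := by
      rw [Set.disjoint_left]
      intro y h1 h2
      rw [← orbit_eq_iff] at h1 h2
      rw [← h1, h2, hc] at hb
      exact hkl hb.symm
    have ha : a ∉ orbit (stabilizer G a) b ∪ orbit (stabilizer G a) c := by
      have key : ∀ z, a ∈ orbit (stabilizer G a) z → z = a := by
        rintro z ⟨⟨g, hg⟩, hz⟩
        exact MulAction.injective g ((show g • z = a from hz).trans hg.symm)
      rintro (h | h)
      · exact hab (key b h).symm
      · exact hac (key c h).symm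
    have huniv : insert a (orbit (stabilizer G a) b ∪ orbit (stabilizer G a) c) = Set.univ := by
      refine Set.eq_of_subset_of_ncard_le (Set.subset_univ _) ?_ (Set.toFinite _)
      rw [Set.ncard_insert_of_notMem ha (Set.toFinite _),
        Set.ncard_union_eq hd (Set.toFinite _) (Set.toFinite _), hb, hc, Set.ncard_univ,
        Nat.card_eq_fintype_card, hΩ]
      omega
    intro y
    exact Set.mem_insert_iff.1 (huniv.symm ▸ Set.mem_univ y)
  have hba : A b a := by
    have hsub : (univ.filter fun y => A y a) ⊆ univ.filter fun y => A a y := by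
      intro y hy
      simp only [mem_filter, mem_univ, true_and] at hy ⊢
      rcases hcover y with rfl | h | h
      · exact absurd hy (hirr y)
      · exact (orbAdj_iff_mem_orbit a b y).2 h
      · exfalso
        have hle : orbit (stabilizer G a) c ⊆ ↑(univ.filter fun y => A y a) := by
          intro z hz
          rw [← orbit_eq_iff.2 h] at hz
          obtain ⟨⟨g, hg⟩, rfl⟩ := hz
          rw [coe_filter]
          refine ⟨mem_univ _, ?_⟩
          have := (orbAdj_smul (G := G) a b g y a).2 hy
          rwa [show g • a = a from hg] at this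
        have hle' := Set.ncard_le_ncard hle (Set.toFinite _)
        rw [Set.ncard_coe_finset, hin, hc] at hle'
        -- the orbit of `c` would be the whole in-neighbourhood, so the two orbits have the same size
        have : orbit (stabilizer G a) c = ↑(univ.filter fun y => A y a) ∨ l < k := by
          rcases Nat.lt_or_eq_of_le hle' with h' | h'
          · exact Or.inr h'
          · exact absurd h'.symm hkl
        rcases this with h' | h'
        · have := congrArg Set.ncard h'
          rw [Set.ncard_coe_finset, hin, hc] at this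
          exact hkl this.symm
        · -- the in-neighbourhood is a union of orbits
          have hz : ∃ z, A z a ∧ z ∈ orbit (stabilizer G a) b := by
            by_contra hne
            push Not at hne
            have hsub' : (↑(univ.filter fun y => A y a) : Set Ω) ⊆ orbit (stabilizer G a) c := by
              intro z hz
              simp only [coe_filter, mem_univ, true_and, Set.mem_ofPred_eq] at hz
              rcases hcover z with rfl | h1 | h1
              · exact absurd hz (hirr z)
              · exact absurd h1 (hne z hz)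
              · exact h1
            have := Set.ncard_le_ncard hsub' (Set.toFinite _)
            rw [Set.ncard_coe_finset, hin, hc] at this
            omega
          obtain ⟨z, hz, hzb⟩ := hz
          have hle2 : orbit (stabilizer G a) b ∪ orbit (stabilizer G a) c ⊆
              ↑(univ.filter fun y => A y a) := by
            rintro w (hw | hw)
            · rw [← orbit_eq_iff.2 hzb] at hw
              obtain ⟨⟨g, hg⟩, rfl⟩ := hw
              rw [coe_filter]
              refine ⟨mem_univ _, ?_⟩
              have := (orbAdj_smul (G := G) a b g z a).2 hz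
              rwa [show g • a = a from hg] at this
            · exact hle hw
          have hd : Disjoint (orbit (stabilizer G a) b) (orbit (stabilizer G a) c) := by
            rw [Set.disjoint_left]
            intro w h1 h2
            rw [← orbit_eq_iff] at h1 h2
            rw [← h1, h2, hc] at hb
            exact hkl hb.symm
          have := Set.ncard_le_ncard hle2 (Set.toFinite _)
          rw [Set.ncard_coe_finset, hin, Set.ncard_union_eq hd (Set.toFinite _) (Set.toFinite _), hb, hc]
            at this
          have : 0 < l := by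
            rw [← hc]; exact (Set.ncard_pos (Set.toFinite _)).2 (nonempty_orbit c)
          omega
    have heq := eq_of_subset_of_card_le hsub (by rw [hout a, hin])
    have hb' : b ∈ univ.filter fun y => A a y := by
      simp only [mem_filter, mem_univ, true_and]
      exact (orbAdj_iff_mem_orbit a b b).2 (mem_orbit_self b)
    rw [← heq] at hb'
    exact (mem_filter.1 hb').2
  have hsymm : ∀ x y, A x y → A y x := by
    rintro x y ⟨g, rfl, rfl⟩
    exact (orbAdj_smul a b g b a).2 hba
  let Γ : SimpleGraph Ω := { Adj := A, symm := ⟨hsymm⟩, loopless := ⟨hirr⟩ }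
  set cn : Ω → Ω → ℕ := fun x y => (univ.filter fun z => A x z ∧ A y z).card with hcn
  have hcns : ∀ (g : G) x y, cn (g • x) (g • y) = cn x y := fun g x y =>
    card_filter_smul (fun z => A x z ∧ A y z) (fun z => A (g • x) z ∧ A (g • y) z) g fun z =>
      and_congr (orbAdj_smul a b g x z) (orbAdj_smul a b g y z)
  have hedge : ∀ x y, A x y → cn x y = cn a b := by
    rintro x y ⟨g, rfl, rfl⟩; exact hcns g a b
  have hnon : ∀ x y, x ≠ y → ¬ A x y → cn x y = cn a c := by
    intro x y hne hA'
    obtain ⟨g, rfl⟩ := exists_smul_eq G a x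
    obtain ⟨z, rfl⟩ : ∃ z, g • z = y := ⟨g⁻¹ • y, smul_inv_smul g y⟩
    rcases hcover z with rfl | h | ⟨⟨j, hj⟩, rfl⟩
    · exact absurd rfl hne
    · exact absurd ((orbAdj_smul a b g a z).2 ((orbAdj_iff_mem_orbit a b z).2 h)) hA'
    · have hj' : j • a = a := hj
      show cn (g • a) (g • (j • c)) = _
      conv_lhs => rw [← hj', ← mul_smul, ← mul_smul]
      exact hcns (g * j) a c
  have hsrg : Γ.IsSRGWith n k (cn a b) (cn a c) := by
    refine ⟨hΩ, fun x => ?_, fun x y h => ?_, fun x y hne h => ?_⟩
    · rw [← SimpleGraph.card_neighborFinset_eq_degree, ← hout x]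
      congr 1
      ext y; simp [Γ]
    all_goals rw [Fintype.card_subtype]
    · rw [← hedge x y h]
      simp only [hcn]
      congr 1
    · rw [← hnon x y hne h]
      simp only [hcn]
      congr 1
  have hp1 : cn a b + 1 ≤ k := by
    have hbm : b ∈ univ.filter fun z => A a z := by
      simpa using (orbAdj_iff_mem_orbit a b b).2 (mem_orbit_self b)
    have hsub : (univ.filter fun z => A a z ∧ A b z) ⊆ (univ.filter fun z => A a z).erase b := by
      intro z hz
      simp only [mem_filter, mem_univ, true_and, mem_erase] at hz ⊢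
      exact ⟨fun e => hirr b (e ▸ hz.2), hz.1⟩
    have h1 := card_le_card hsub
    rw [card_erase_of_mem hbm, hout a] at h1
    have h2 : 0 < k := by rw [← hout a]; exact card_pos.2 ⟨b, hbm⟩
    show (univ.filter fun z => A a z ∧ A b z).card + 1 ≤ k
    omega
  have hq : cn a c ≤ k := by
    rw [← hout a]
    exact card_le_card fun z hz => by
      simp only [mem_filter, mem_univ, true_and] at hz ⊢; exact hz.1
  exact ⟨Γ, inferInstance, cn a b, cn a c, hsrg, hp1, hq, fun g x y => orbAdj_smul a b g x y⟩

/-- A strongly regular graph whose adjacency is transitive is a union of cliques of equal size. -/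
theorem dvd_of_clique {n k p q : ℕ} {Γ : SimpleGraph Ω} [DecidableRel Γ.Adj] (h : Γ.IsSRGWith n k p q)
    (hp : p + 1 = k) : k + 1 ∣ n := by
  set C : Ω → Finset Ω := fun x => insert x (Γ.neighborFinset x) with hC
  have hdeg : ∀ x, (Γ.neighborFinset x).card = k := fun x => by
    rw [SimpleGraph.card_neighborFinset_eq_degree]; exact h.regular x
  have hCc : ∀ x, (C x).card = k + 1 := fun x => by
    rw [hC, card_insert_of_notMem (by simp), hdeg]
  have hblock : ∀ x, ∀ y ∈ C x, C y = C x := by
    intro x y hy
    rw [hC, mem_insert, SimpleGraph.mem_neighborFinset] at hy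
    rcases hy with rfl | hy
    · rfl
    refine eq_of_subset_of_card_le (fun z hz => ?_) (by rw [hCc, hCc])
    have hcn : (univ.filter fun z => Γ.Adj x z ∧ Γ.Adj y z).card = p := by
      rw [← h.of_adj x y hy, Fintype.card_subtype]
      congr 1
    have hfull : (univ.filter fun z => Γ.Adj x z ∧ Γ.Adj y z) = (Γ.neighborFinset y).erase x := by
      refine eq_of_subset_of_card_le (fun z hz => ?_) ?_
      · simp only [mem_filter, mem_univ, true_and, mem_erase, SimpleGraph.mem_neighborFinset] at hz ⊢
        exact ⟨fun e => Γ.loopless.irrefl x (e ▸ hz.1), hz.2⟩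
      · rw [card_erase_of_mem (by simp [hy.symm]), hdeg, hcn]
        omega
    simp only [hC, mem_insert, SimpleGraph.mem_neighborFinset] at hz ⊢
    rcases hz with rfl | hz
    · exact Or.inr hy
    by_cases hzx : z = x
    · exact Or.inl hzx
    · have : z ∈ (Γ.neighborFinset y).erase x := by simp [hzx, hz]
      rw [← hfull] at this
      exact Or.inr (mem_filter.1 this).2.1
  have hdisj : ((univ : Finset Ω).image C : Set (Finset Ω)).PairwiseDisjoint id := by
    intro P hP Q hQ hne
    obtain ⟨u, -, rfl⟩ := mem_image.1 hP
    obtain ⟨v, -, rfl⟩ := mem_image.1 hQ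
    exact disjoint_left.2 fun z hz hz' => hne ((hblock u z hz).symm.trans (hblock v z hz'))
  have hu : ((univ : Finset Ω).image C).biUnion id = univ := eq_univ_of_forall fun z => by
    rw [mem_biUnion]; exact ⟨C z, mem_image_of_mem C (mem_univ z), mem_insert_self _ _⟩
  have hc' := congrArg card hu
  rw [card_biUnion hdisj, sum_const_nat (m := k + 1) (fun P hP => by
    obtain ⟨u, -, rfl⟩ := mem_image.1 hP
    exact hCc u), card_univ, h.card] at hc'
  exact ⟨_, by rw [mul_comm]; exact hc'.symm⟩

/-- The parameters. -/
theorem exists_srg77 (hΩ : Fintype.card Ω = 77) [IsPretransitive G Ω] (a b c : Ω) (hab : a ≠ b) (hac : a ≠ c)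
    {k : ℕ} (hk : k = 4 ∨ k = 12 ∨ k = 16 ∨ k = 36)
    (hb : (orbit (stabilizer G a) b).ncard = k) (hc : (orbit (stabilizer G a) c).ncard = 76 - k) :
    ∃ (Γ : SimpleGraph Ω) (_ : DecidableRel Γ.Adj), Γ.IsSRGWith 77 16 0 4 ∧
      ∀ (g : G) (x y : Ω), Γ.Adj (g • x) (g • y) ↔ Γ.Adj x y := by
  obtain ⟨Γ, i, p, q, hs, hp, hq, hinv⟩ :=
    exists_srg_orbit hΩ (k := k) (l := 76 - k) (by omega) (by omega) a b c hab hac hb hc
  have hpar := SimpleGraph.IsSRGWith.param_eq Γ hs (by norm_num)
  have hq0 : q ≠ 0 := by
    intro h0
    rw [h0, mul_zero, mul_eq_zero] at hpar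
    have hd := dvd_of_clique hs (by omega)
    rcases hk with rfl | rfl | rfl | rfl <;> norm_num at hd
  rcases hk with rfl | rfl | rfl | rfl
  · omega
  · omega
  · obtain ⟨rfl, rfl⟩ : p = 0 ∧ q = 4 := by omega
    exact ⟨Γ, i, hs, hinv⟩
  · exfalso
    obtain ⟨rfl, rfl⟩ | ⟨rfl, rfl⟩ | ⟨rfl, rfl⟩ :
        (p = 25 ∧ q = 9) ∨ (p = 15 ∧ q = 18) ∨ (p = 5 ∧ q = 27) := by omega
    · exact not_25 hs
    · exact not_18 hs
    · exact not_5 hs

end Cfsg.Agent.Order443520
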