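import Cfsg.Agent.Lib.Order443520.Facts
import Cfsg.Agent.Lib.Order443520.RankThree
import Cfsg.Agent.Lib.Char.PermRelation
import Cfsg.Agent.Lib.Srg77.Main
import Cfsg.Agent.Lib.Hexad22.Aut

/-!
A simple group of order 443520 with a subgroup of index 77 and the expected small degrees is isomorphic to
the Mathieu group on 22 points.
-/

set_option autoImplicit false

namespace Cfsg.Agent.Order443520

open MulAction Cfsg.Agent.Char

variable {G : Type*} [Group G] [Finite G]

/-- The permutation character on 77 points has three constituents. -/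
theorem orbits_three {Ω : Type*} [Fintype Ω] [MulAction G Ω] [IsPretransitive G Ω]
    (hΩ : Fintype.card Ω = 77) (a : Ω)
    (hdeg : ∀ χ : Cfsg.IrrCharacter G, χ ≠ trivialChar G → degree χ ≤ 76 →
      degree χ = 21 ∨ degree χ = 45 ∨ degree χ = 55) :
    Nat.card (orbitRel.Quotient (stabilizer G a) Ω) = 3 := by
  classical
  letI := Fintype.ofFinite G
  obtain ⟨m, -, hm1, hn, hr⟩ := PermConstituent.exists_mult_spec (G := G) a
  rw [hr]
  rw [hΩ, ← Finset.add_sum_erase _ _ (Finset.mem_univ (trivialChar G))] at hn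
  rw [← Finset.add_sum_erase _ _ (Finset.mem_univ (trivialChar G))]
  have ht : degree (trivialChar G) = 1 := by
    have := (apply_one_eq_degree (trivialChar G)).symm
    rw [trivialChar_apply] at this
    exact_mod_cast this
  rw [hm1, ht] at hn
  rw [hm1]
  set S := (Finset.univ.erase (trivialChar G)).filter fun χ => m χ ≠ 0 with hS
  have e1 : ∑ χ ∈ Finset.univ.erase (trivialChar G), m χ * degree χ = ∑ χ ∈ S, m χ * degree χ := by
    rw [hS, Finset.sum_filter_of_ne]
    intro χ _ h h0
    exact h (by rw [h0, zero_mul])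
  have e2 : ∑ χ ∈ Finset.univ.erase (trivialChar G), m χ * m χ = ∑ χ ∈ S, m χ * m χ := by
    rw [hS, Finset.sum_filter_of_ne]
    intro χ _ h h0
    exact h (by rw [h0, zero_mul])
  rw [e1] at hn
  rw [e2]
  have h76 : ∑ χ ∈ S, m χ * degree χ = 76 := by omega
  have hd : ∀ χ ∈ S, degree χ = 21 ∨ degree χ = 45 ∨ degree χ = 55 := fun χ hχ => by
    obtain ⟨hne, hm0⟩ := Finset.mem_filter.1 hχ
    refine hdeg χ (Finset.ne_of_mem_erase hne) ?_
    have h := Finset.single_le_sum (f := fun χ => m χ * degree χ) (fun _ _ => Nat.zero_le _) hχ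
    rw [h76] at h
    exact le_trans (Nat.le_mul_of_pos_left _ (Nat.pos_of_ne_zero hm0)) h
  -- split by the degree
  have hsplit : ∀ f : Cfsg.IrrCharacter G → ℕ, ∑ χ ∈ S, f χ = ∑ χ ∈ S.filter (fun χ => degree χ = 21), f χ +
      ∑ χ ∈ S.filter (fun χ => degree χ = 45), f χ + ∑ χ ∈ S.filter (fun χ => degree χ = 55), f χ := by
    intro f
    rw [← Finset.sum_union, ← Finset.sum_union]
    · refine Finset.sum_congr (Finset.ext fun χ => ?_) fun _ _ => rfl
      simp only [Finset.mem_union, Finset.mem_filter]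
      exact ⟨fun h => by rcases hd χ h with e | e | e <;> simp [h, e],
        fun h => by rcases h with (h | h) | h <;> exact h.1⟩
    · refine Finset.disjoint_left.2 fun χ h h' => ?_
      simp only [Finset.mem_union, Finset.mem_filter] at h h'
      rcases h with h | h <;> omega
    · refine Finset.disjoint_left.2 fun χ h h' => ?_
      simp only [Finset.mem_filter] at h h'
      omega
  have hw : ∀ d : ℕ, ∑ χ ∈ S.filter (fun χ => degree χ = d), m χ * degree χ =
      (∑ χ ∈ S.filter (fun χ => degree χ = d), m χ) * d := fun d => by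
    rw [Finset.sum_mul]
    exact Finset.sum_congr rfl fun χ hχ => by rw [(Finset.mem_filter.1 hχ).2]
  rw [hsplit, hw, hw, hw] at h76
  rw [hsplit]
  set i := ∑ χ ∈ S.filter (fun χ => degree χ = 21), m χ with hi
  set j := ∑ χ ∈ S.filter (fun χ => degree χ = 45), m χ with hj
  set l := ∑ χ ∈ S.filter (fun χ => degree χ = 55), m χ with hl
  have hone : i = 1 ∧ j = 0 ∧ l = 1 := by omega
  have hsq : ∀ d : ℕ, (∑ χ ∈ S.filter (fun χ => degree χ = d), m χ) ≤ 1 →
      ∑ χ ∈ S.filter (fun χ => degree χ = d), m χ * m χ =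
        ∑ χ ∈ S.filter (fun χ => degree χ = d), m χ := fun d h =>
    Finset.sum_congr rfl fun χ hχ => by
      have h1 := (Finset.single_le_sum (f := m) (fun _ _ => Nat.zero_le _) hχ).trans h
      rcases Nat.le_one_iff_eq_zero_or_eq_one.1 h1 with e | e <;> rw [e]
  rw [hsq 21 (by omega), hsq 45 (by omega), hsq 55 (by omega)]
  omega

/-- With three orbits of the stabiliser there are two suborbits besides the point. -/
theorem exists_two_orbits {Ω : Type*} [Fintype Ω] [MulAction G Ω] [IsPretransitive G Ω] (a : Ω)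
    (h3 : Nat.card (orbitRel.Quotient (stabilizer G a) Ω) = 3) :
    ∃ b c : Ω, a ≠ b ∧ a ≠ c ∧
      1 + (orbit (stabilizer G a) b).ncard + (orbit (stabilizer G a) c).ncard = Fintype.card Ω := by
  classical
  have hfix : orbit (stabilizer G a) a = {a} := by
    ext y
    refine ⟨?_, fun h => by rw [Set.mem_singleton_iff.1 h]; exact mem_orbit_self a⟩
    rintro ⟨⟨g, hg⟩, rfl⟩; exact hg
  rw [Nat.card_eq_fintype_card] at h3
  set qa : orbitRel.Quotient (stabilizer G a) Ω := Quotient.mk _ a with hqa
  have hcard : (Finset.univ.erase qa).card = 2 := by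
    rw [Finset.card_erase_of_mem (Finset.mem_univ _), Finset.card_univ, h3]
  obtain ⟨q1, q2, hne, hq⟩ := Finset.card_eq_two.1 hcard
  have h1 : q1 ≠ qa := Finset.ne_of_mem_erase (hq ▸ Finset.mem_insert_self q1 _)
  have h2 : q2 ≠ qa := Finset.ne_of_mem_erase (hq ▸ Finset.mem_insert_of_mem (Finset.mem_singleton_self q2))
  refine ⟨q1.out, q2.out, fun e => h1 ?_, fun e => h2 ?_, ?_⟩
  · exact (Quotient.out_eq q1).symm.trans (congrArg _ e.symm)
  · exact (Quotient.out_eq q2).symm.trans (congrArg _ e.symm)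
  have hcnt := Nat.card_congr (selfEquivSigmaOrbits (stabilizer G a) Ω)
  rw [Nat.card_sigma, Nat.card_eq_fintype_card, ← Finset.add_sum_erase _ _ (Finset.mem_univ qa), hq,
    Finset.sum_pair hne] at hcnt
  have ha : orbit (stabilizer G a) qa.out = {a} := by
    rw [← hfix]
    exact orbit_eq_iff.2 (Quotient.mk_out (s := orbitRel (stabilizer G a) Ω) a)
  rw [Nat.card_coe_set_eq, Nat.card_coe_set_eq, Nat.card_coe_set_eq, ha, Set.ncard_singleton] at hcnt
  omega

/-- Two subgroups of order 443520, one of index two and one simple, coincide. -/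
theorem eq_of_index_two {A : Type*} [Group A] [Finite A] (hA : Nat.card A = 887040) {H K : Subgroup A}
    (hH : IsSimpleGroup H) (hHc : Nat.card H = 443520) (hKc : Nat.card K = 443520) : K = H := by
  have hKi : K.index = 2 := by
    have := K.card_mul_index
    rw [hKc, hA] at this
    omega
  haveI := Subgroup.normal_of_index_eq_two hKi
  rcases hH.eq_bot_or_eq_top_of_normal _ (inferInstance : (K.subgroupOf H).Normal) with h | h
  · exfalso
    have hd := Subgroup.relIndex_dvd_index_of_normal K H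
    rw [Subgroup.relIndex, h, Subgroup.index_bot, hHc, hKi] at hd
    norm_num at hd
  · exact (Subgroup.eq_of_le_of_card_ge (Subgroup.subgroupOf_eq_top.1 h) (by rw [hKc, hHc])).symm

/-- A simple group of order 443520 acting faithfully on an S(3,6,22) is isomorphic to the model. -/
theorem isoM22_of_steiner [IsSimpleGroup G] (hG : Nat.card G = 443520) {α : Type*} [Fintype α] [DecidableEq α]
    {B : Set (Finset α)} (hα : Fintype.card α = 22) (hB : Cfsg.IsSteinerSystem 3 6 B)
    (f : G →* Cfsg.setSystemAut B) (hf : Function.Injective f) : Cfsg.Spor.IsoM22 G := by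
  obtain ⟨e, he⟩ := Hexad22.exists_iso_22 hα Hexad22.card_pt22 hB Hexad22.hexads_steiner
  set Φ := GolayUnique.autEquiv e he
  let φ : Cfsg.Spor.M22 →* Cfsg.setSystemAut Hexad22.hexads :=
    Hexad22.restrictHom.comp (Subgroup.inclusion Hexad22.M22_le_pairStab)
  have hφ : Function.Injective φ := by
    intro g h hgh
    refine Subtype.ext (Equiv.ext fun x => ?_)
    obtain ⟨-, g0, g1⟩ := Mathieu.mem_M22_iff.1 g.2
    obtain ⟨-, h0, h1⟩ := Mathieu.mem_M22_iff.1 h.2
    by_cases hx : x ∈ Hexad22.twoPts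
    · rcases Hexad22.mem_twoPts.1 hx with rfl | rfl
      exacts [g0.trans h0.symm, g1.trans h1.symm]
    · exact congrArg (fun σ : Cfsg.setSystemAut Hexad22.hexads => ((σ.1 ⟨x, hx⟩ : Hexad22.Pt22) : Cfsg.GolayPt)) hgh
  have hψ : Function.Injective (Φ.toMonoidHom.comp f) := Φ.injective.comp hf
  have hsimp : IsSimpleGroup (Φ.toMonoidHom.comp f).range :=
    MulEquiv.isSimpleGroup (MonoidHom.ofInjective hψ).symm
  have heq : φ.range = (Φ.toMonoidHom.comp f).range := eq_of_index_two Hexad22.hexads_aut.1 hsimp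
    (by rw [← hG]; exact (Nat.card_congr (MonoidHom.ofInjective hψ).toEquiv).symm)
    (by rw [← Nat.card_congr (MonoidHom.ofInjective hφ).toEquiv]; exact Mathieu.card_M22)
  exact ⟨(MonoidHom.ofInjective hψ).trans ((MulEquiv.subgroupCongr heq.symm).trans
    (MonoidHom.ofInjective hφ).symm)⟩

/-- A simple group of order 443520 acting faithfully on a graph with parameters (77, 16, 0, 4). -/
theorem isoM22_of_srg [IsSimpleGroup G] (hG : Nat.card G = 443520) {Ω : Type*} [Fintype Ω] [DecidableEq Ω]
    [MulAction G Ω] [FaithfulSMul G Ω] {Γ : SimpleGraph Ω} [DecidableRel Γ.Adj]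
    (hs : Γ.IsSRGWith 77 16 0 4) (hinv : ∀ (g : G) (x y : Ω), Γ.Adj (g • x) (g • y) ↔ Γ.Adj x y) :
    Cfsg.Spor.IsoM22 G := by
  classical
  have hco : ∀ (g : G) (C : Srg77.Pt Γ), Srg77.IsCo Γ (C.1.image fun x => g • x) := fun g C => by
    refine ⟨by rw [Finset.card_image_of_injective _ (MulAction.injective g)]; exact C.2.1, ?_⟩
    intro x hx y hy
    obtain ⟨u, hu, rfl⟩ := Finset.mem_image.1 hx
    obtain ⟨v, hv, rfl⟩ := Finset.mem_image.1 hy
    exact fun h => C.2.2 u hu v hv ((hinv g u v).1 h)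
  letI : MulAction G (Srg77.Pt Γ) :=
    { smul := fun g C => ⟨C.1.image fun x => g • x, hco g C⟩
      one_smul := fun C => Subtype.ext (show C.1.image (fun x => (1 : G) • x) = C.1 by simp)
      mul_smul := fun g h C => Subtype.ext (by
        show C.1.image (fun x => (g * h) • x) = (C.1.image fun x => h • x).image fun x => g • x
        rw [Finset.image_image]
        exact Finset.image_congr fun x _ => mul_smul g h x) }
  have hstar : ∀ (g : G) (x : Ω), Srg77.star Γ (g • x) =
      (Srg77.star Γ x).image (MulAction.toPerm g : Equiv.Perm (Srg77.Pt Γ)) := by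
    intro g x
    ext C
    simp only [Srg77.star, Finset.mem_filter, Finset.mem_univ, true_and, Finset.mem_image]
    constructor
    · intro h
      refine ⟨g⁻¹ • C, ?_, smul_inv_smul g C⟩
      show x ∈ C.1.image fun y => g⁻¹ • y
      exact Finset.mem_image.2 ⟨g • x, h, inv_smul_smul g x⟩
    · rintro ⟨D, hD, rfl⟩
      show g • x ∈ D.1.image fun y => g • y
      exact Finset.mem_image_of_mem _ hD
  have hmem : ∀ g : G, (MulAction.toPermHom G (Srg77.Pt Γ) g) ∈
      Cfsg.setSystemAut (Set.range (Srg77.star Γ)) := fun g => by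
    rw [GolayUnique.mem_setSystemAut_iff]
    intro b
    constructor
    · rintro ⟨x, hx⟩
      refine ⟨g⁻¹ • x, Finset.image_injective (MulAction.toPerm g : Equiv.Perm (Srg77.Pt Γ)).injective ?_⟩
      rw [← hstar, smul_inv_smul, hx]
      rfl
    · rintro ⟨x, rfl⟩
      exact ⟨g • x, hstar g x⟩
  refine isoM22_of_steiner hG (Srg77.card_pt hs) (Srg77.star_steiner hs)
    ((MulAction.toPermHom G (Srg77.Pt Γ)).codRestrict _ hmem) fun g h e => ?_
  refine eq_of_smul_eq_smul (α := Ω) fun x => Srg77.star_injective hs ?_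
  rw [hstar, hstar]
  exact congrArg (fun σ : Equiv.Perm (Srg77.Pt Γ) => (Srg77.star Γ x).image σ) (congrArg Subtype.val e)

/-- An action on 77 points gives the isomorphism. -/
theorem isoM22_of_action [IsSimpleGroup G] (hG : Nat.card G = 443520)
    (hdeg : ∀ χ : Cfsg.IrrCharacter G, χ ≠ trivialChar G → degree χ ≤ 76 →
      degree χ = 21 ∨ degree χ = 45 ∨ degree χ = 55)
    {Ω : Type*} [Fintype Ω] [MulAction G Ω] [FaithfulSMul G Ω] [IsPretransitive G Ω]
    (hΩ : Fintype.card Ω = 77) (a : Ω) : Cfsg.Spor.IsoM22 G := by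
  classical
  have hst : Nat.card (stabilizer G a) = 5760 := by
    have h := (stabilizer G a).card_mul_index
    rw [index_stabilizer, orbit_eq_univ, Set.ncard_univ, Nat.card_eq_fintype_card (α := Ω), hΩ, hG] at h
    omega
  obtain ⟨b, c, hab, hac, hsum⟩ := exists_two_orbits a (orbits_three hΩ a hdeg)
  rw [hΩ] at hsum
  have hdvd : ∀ y : Ω, (orbit (stabilizer G a) y).ncard ∣ 5760 := fun y => by
    rw [← hst, ← index_stabilizer]; exact Subgroup.index_dvd_card _
  have hk : ∀ k : ℕ, k ∣ 5760 → 76 - k ∣ 5760 → k ≤ 38 →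
      k = 0 ∨ k = 4 ∨ k = 12 ∨ k = 16 ∨ k = 36 := by
    intro k h1 h2 h3
    interval_cases k <;> first | omega | (exfalso; revert h1 h2; decide)
  have hpos : ∀ y : Ω, 0 < (orbit (stabilizer G a) y).ncard := fun y =>
    (Set.ncard_pos (Set.toFinite _)).2 (nonempty_orbit y)
  rcases le_total (orbit (stabilizer G a) b).ncard 38 with hle | hle
  · have h4 := hk _ (hdvd b) (by rw [show 76 - (orbit (stabilizer G a) b).ncard =
      (orbit (stabilizer G a) c).ncard by omega]; exact hdvd c) hle
    have := hpos b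
    obtain ⟨Γ, _, hs, hinv⟩ := exists_srg77 hΩ a b c hab hac (k := (orbit (stabilizer G a) b).ncard)
      (by omega) rfl (by omega)
    exact isoM22_of_srg hG hs hinv
  · have h4 := hk _ (hdvd c) (by rw [show 76 - (orbit (stabilizer G a) c).ncard =
      (orbit (stabilizer G a) b).ncard by omega]; exact hdvd b) (by omega)
    have := hpos c
    obtain ⟨Γ, _, hs, hinv⟩ := exists_srg77 hΩ a c b hac hab (k := (orbit (stabilizer G a) c).ncard)
      (by omega) rfl (by omega)
    exact isoM22_of_srg hG hs hinv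


/-- Index 77 gives the isomorphism. -/
theorem isoM22_of_index [IsSimpleGroup G] (hG : Nat.card G = 443520)
    (hdeg : ∀ χ : Cfsg.IrrCharacter G, χ ≠ trivialChar G → degree χ ≤ 76 →
      degree χ = 21 ∨ degree χ = 45 ∨ degree χ = 55)
    {M : Subgroup G} (hM : M.index = 77) : Cfsg.Spor.IsoM22 G := by
  classical
  letI := Fintype.ofFinite (G ⧸ M)
  have hΩ : Fintype.card (G ⧸ M) = 77 := by
    rw [← hM, Subgroup.index_eq_card, Nat.card_eq_fintype_card]
  haveI : FaithfulSMul G (G ⧸ M) := by
    refine ⟨fun {g h} e => ?_⟩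
    have hk : (MulAction.toPermHom G (G ⧸ M)).ker = ⊥ := by
      rcases (MonoidHom.normal_ker (MulAction.toPermHom G (G ⧸ M))).eq_bot_or_eq_top with hb | ht
      · exact hb
      · exfalso
        have hMtop : M = ⊤ := by
          refine (Subgroup.eq_top_iff' M).2 fun x => ?_
          have hx : x ∈ (MulAction.toPermHom G (G ⧸ M)).ker := ht ▸ Subgroup.mem_top x
          have h1 := congrFun (congrArg (fun σ : Equiv.Perm (G ⧸ M) => (σ : G ⧸ M → G ⧸ M)) hx)
            ((1 : G) : G ⧸ M)
          have h1' : ((x * 1 : G) : G ⧸ M) = ((1 : G) : G ⧸ M) := h1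
          rw [mul_one, QuotientGroup.eq, mul_one] at h1'
          exact inv_mem_iff.1 h1'
        rw [hMtop, Subgroup.index_top] at hM
        norm_num at hM
    exact (MonoidHom.ker_eq_bot_iff _).1 hk (Equiv.ext e)
  exact isoM22_of_action hG hdeg hΩ ((1 : G) : G ⧸ M)

end Cfsg.Agent.Order443520
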