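import Cfsg.Agent.Lib.Char.PermChar
import Cfsg.Agent.Lib.CharInt.Eigen

/-!
# The interface between the character theory and the group theory of order 443520

`Facts G` is what the character theory has to prove about a simple group of order 443520; the group
theory turns it into a subgroup of index 77 and an isomorphism with `M₂₂`.
-/

set_option autoImplicit false

namespace Cfsg.Agent.Order443520

open Subgroup

/-- The centralizer of an element. -/
abbrev cent {G : Type*} [Group G] (z : G) : Subgroup G := centralizer ({z} : Set G)

/-- Consequences of the character theory of a simple group of order 443520. -/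
structure Facts (G : Type*) [Group G] [Finite G] : Prop where
  card : Nat.card G = 443520
  /-- One kind of involutions, as far as the order of the centralisers is concerned. -/
  two : ∀ t : G, orderOf t = 2 → Nat.card (cent t) = 384
  three : ∀ g : G, orderOf g = 3 → Nat.card (cent g) = 36
  five : ∀ y : G, orderOf y = 5 →
    Nat.card (cent y) = 5 ∧ Nat.card (normalizer (zpowers y : Set G)) = 20
  seven : ∀ y : G, orderOf y = 7 →
    Nat.card (cent y) = 7 ∧ Nat.card (normalizer (zpowers y : Set G)) = 21
  eleven : ∀ x : G, orderOf x = 11 →
    Nat.card (cent x) = 11 ∧ Nat.card (normalizer (zpowers x : Set G)) = 55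
  /-- The small degrees. -/
  degree : ∀ χ : Cfsg.IrrCharacter G, χ ≠ Cfsg.Agent.Char.trivialChar G →
    Cfsg.Agent.Char.degree χ ≤ 76 → Cfsg.Agent.Char.degree χ = 21 ∨ Cfsg.Agent.Char.degree χ = 45 ∨
      Cfsg.Agent.Char.degree χ = 55

end Cfsg.Agent.Order443520
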