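import Cfsg.Agent.Lib.Order443520.LocalSmall

/-!
# A subgroup of index 77

For an element `g` of order 3 with four group `V` in an involution centraliser with core `Q` of order 64: either the
part of `Q` centralising `V` is a normal subgroup of order 16 whose normaliser has order 5760, or `Q` centralises `V`.
In the second case a second element `k` of order 3 gives `E = V W` of order 16, and either `N(E)` has order 5760, or
`Q` is abelian and every involution of `Q` has its centraliser in `N(Q)`, which is impossible.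
-/

set_option autoImplicit false
set_option maxHeartbeats 800000

namespace Cfsg.Agent.Order443520.Loc

open Subgroup

variable {G : Type*} [Group G] [Finite G]

theorem exists_index_of_card (F : Facts G) (N : Subgroup G) (h : Nat.card N = 5760) :
    ∃ M : Subgroup G, M.index = 77 := by
  refine ⟨N, ?_⟩
  have := Subgroup.card_mul_index N
  rw [h, F.card] at this
  omega

section Setting

variable (F : Facts G) {t g : G} (ht : orderOf t = 2) (hg : orderOf g = 3) (hgt : g ∈ cent t)

include F hg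

/-- The involutions of the four group lie in one orbit of anything containing a conjugating element. -/
theorem four_subset_orbit {t : G} (ht : t ∈ fourG g) (ht1 : t ≠ 1) {N : Subgroup G} (hN : cent g ≤ N) :
    (fourG g : Set G) \ {1} ⊆ orbC N t := by
  rintro v ⟨hv, hv1⟩
  obtain ⟨h, hh, e⟩ := four_trans F hg ht ht1 hv (by simpa using hv1)
  exact mem_orbC.2 ⟨h, hN hh, e⟩

theorem four_ncard : ((fourG g : Set G) \ {1}).ncard = 3 := by
  rw [Set.ncard_sdiff (by simp), Set.ncard_singleton, ← Nat.card_coe_set_eq]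
  simp only [SetLike.coe_sort_coe]
  rw [four_card F hg]

/-- Elements fixed by `g` in an invariant set inside the core. -/
theorem orbit_mod {t : G} (ht : orderOf t = 2) (hgt : g ∈ cent t) {O : Set G} (hO : O ⊆ (core t : Set G) \ {1})
    (hV : (fourG g : Set G) \ {1} ⊆ O) (hinv : ∀ x ∈ O, g * x * g⁻¹ ∈ O) : O.ncard % 3 = 0 := by
  haveI : Fact (Nat.Prime 3) := ⟨by norm_num⟩
  have hgn : ∀ l ∈ zpowers g, ∀ x ∈ O, l * x * l⁻¹ ∈ O := by
    classical
    intro l hl x hx
    obtain ⟨i, -, rfl⟩ := Finset.mem_image.1 (mem_zpowers_iff_mem_range_orderOf.1 hl)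
    induction i with
    | zero => simpa using hx
    | succ i ih =>
      have h := hinv _ (ih (pow_mem (mem_zpowers g) i))
      rwa [show g ^ (i + 1) * x * (g ^ (i + 1))⁻¹ = g * (g ^ i * x * (g ^ i)⁻¹) * g⁻¹ by rw [pow_succ']; group]
  have h := ncard_modEq_fixed (p := 3) (L := zpowers g) (IsPGroup.of_card (n := 1) (by rw [card_cube hg, pow_one]))
    O hgn
  have e : {x ∈ O | ∀ l ∈ zpowers g, l * x = x * l} = (fourG g : Set G) \ {1} := by
    ext x
    constructor
    · rintro ⟨hx, hc⟩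
      exact ⟨core_inf_cent F ht hg hgt hg (mem_inf.2 ⟨(hO hx).1, mem_cent_iff.2 (hc g (mem_zpowers g)).symm⟩),
        (hO hx).2⟩
    · intro hx
      refine ⟨hV hx, fun l hl => ?_⟩
      obtain ⟨i, rfl⟩ := mem_zpowers_iff.1 hl
      exact Commute.zpow_left (mem_cent_iff.1 (four_le F hg hx.1) : Commute x g).symm i
  rw [e, four_ncard F hg] at h
  exact h

include ht hgt

/-- The part of order 16 gives the subgroup of index 77. -/
theorem exists_index_of_sixteen (hP : Nat.card ↥(core t ⊓ centralizer (fourG g : Set G)) = 16) :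
    ∃ M : Subgroup G, M.index = 77 := by
  set P := core t ⊓ centralizer (fourG g : Set G) with hPdef
  have ht4 := t_mem_four F ht hg hgt
  have ht1 := ne_one_of_orderOf (by norm_num) ht
  have hVP : fourG g ≤ P := le_inf (four_le_core F ht hg hgt)
    fun x hx => mem_centralizer_iff.2 fun y hy => four_comm F hg hy hx
  have hgP : cent g ≤ normalizer (P : Set G) := fun h hh => cent_norm_part F ht hg hgt hh
  have hgg : g ∈ cent g := mem_cent_iff.2 rfl
  have hQP := grow F ht hg hgt (inf_le_left : P ≤ core t) hVP hP (hgP hgg)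
  obtain ⟨n, hnt, hn⟩ := exists_inverting F ht hg hgt
  -- `n` normalises the four group
  have hnV : n ∈ normalizer (fourG g : Set G) := mem_normalizer_of_conj fun x hx => by
    refine mem_four F hg (k := 1) (mem_cent_iff.2 ?_) ?_
    · have hxg : x * g⁻¹ = g⁻¹ * x := (Commute.inv_right (mem_cent_iff.1 (four_le F hg hx) : Commute x g)).eq
      have hg' : g = n * g⁻¹ * n⁻¹ := by
        calc g = (g⁻¹)⁻¹ := (inv_inv g).symm
          _ = (n * g * n⁻¹)⁻¹ := by rw [hn]
          _ = n * g⁻¹ * n⁻¹ := by group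
      calc n * x * n⁻¹ * g = n * x * n⁻¹ * (n * g⁻¹ * n⁻¹) := by rw [← hg']
        _ = n * (x * g⁻¹) * n⁻¹ := by group
        _ = n * (g⁻¹ * x) * n⁻¹ := by rw [hxg]
        _ = n * g⁻¹ * n⁻¹ * (n * x * n⁻¹) := by group
        _ = g * (n * x * n⁻¹) := by rw [← hg']
    · rw [pow_one, pow_two, show n * x * n⁻¹ * (n * x * n⁻¹) = n * (x * x) * n⁻¹ by group, four_sq F hg hx]
      group
  have hnP : n ∈ normalizer (P : Set G) := mem_normalizer_of_conj fun x hx => by
    obtain ⟨h1, h2⟩ := mem_inf.1 hx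
    refine mem_inf.2 ⟨conj_mem_of_mem_normalizer (cent_le_normalizer_core t hnt) h1,
      mem_centralizer_iff.2 fun y hy => ?_⟩
    have hy' : n⁻¹ * y * n⁻¹⁻¹ ∈ fourG g := conj_mem_of_mem_normalizer (inv_mem hnV) hy
    calc y * (n * x * n⁻¹) = n * (n⁻¹ * y * n⁻¹⁻¹ * x) * n⁻¹ := by group
      _ = n * (x * (n⁻¹ * y * n⁻¹⁻¹)) * n⁻¹ := by rw [mem_centralizer_iff.1 h2 _ hy']
      _ = n * x * n⁻¹ * y := by group
  set N := normalizer (P : Set G) with hN
  set M := cent t ⊓ N with hM
  have hQg : zpowers g ≤ normalizer (core t : Set G) := zpowers_le.2 (g_norm_core F ht hg hgt)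
  have hdisj : zpowers g ⊓ core t = ⊥ := by
    refine Subgroup.eq_bot_of_card_eq _ ?_
    have h1 := Subgroup.card_dvd_of_le (inf_le_left : zpowers g ⊓ core t ≤ zpowers g)
    have h2 := Subgroup.card_dvd_of_le (inf_le_right : zpowers g ⊓ core t ≤ core t)
    rw [card_cube hg] at h1
    rw [core_card F ht hg hgt] at h2
    have h3 := Nat.dvd_gcd h1 h2
    norm_num at h3
    exact h3
  have hJ : Nat.card ↥(zpowers g ⊔ core t) = 192 := by
    rw [card_sup_of_disjoint hQg hdisj, card_cube hg, core_card F ht hg hgt]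
  have hJM : zpowers g ⊔ core t ≤ M :=
    sup_le (zpowers_le.2 (mem_inf.2 ⟨hgt, hgP hgg⟩)) (le_inf (core_le t) hQP)
  have hnJ : n ∉ zpowers g ⊔ core t := by
    intro hmem
    obtain ⟨a, ha, c, hc, rfl⟩ := (mem_sup_normalizing hQg).1 hmem
    obtain ⟨i, rfl⟩ := mem_zpowers_iff.1 ha
    have h1 : c * g * c⁻¹ = g⁻¹ := by
      calc c * g * c⁻¹ = (g ^ i)⁻¹ * (g ^ i * c * g * (g ^ i * c)⁻¹) * g ^ i := by group
        _ = (g ^ i)⁻¹ * g⁻¹ * g ^ i := by rw [hn]
        _ = g⁻¹ := by group
    have h2 : g⁻¹ * g⁻¹ ∈ core t := by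
      have hg' := conj_mem_of_mem_normalizer (g_norm_core F ht hg hgt) (inv_mem hc)
      have : c * (g * c⁻¹ * g⁻¹) = g⁻¹ * g⁻¹ := by rw [← mul_assoc, ← mul_assoc, h1]
      exact this ▸ mul_mem hc hg'
    have h3 : g⁻¹ * g⁻¹ = g := by
      rw [← mul_inv_rev, inv_eq_iff_mul_eq_one, ← pow_two, ← pow_succ]
      exact orderOf_dvd_iff_pow_eq_one.1 (dvd_of_eq hg)
    rw [h3] at h2
    exact ne_one_of_orderOf (by norm_num) hg (mem_bot.1 (hdisj ▸ mem_inf.2 ⟨mem_zpowers g, h2⟩))
  have hMt : M = cent t := by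
    refine eq_of_le_of_card_ge inf_le_left ?_
    rw [F.two t ht]
    have h1 := Subgroup.card_dvd_of_le hJM
    have h2 := Subgroup.card_dvd_of_le (inf_le_left : M ≤ cent t)
    rw [hJ] at h1
    rw [F.two t ht] at h2
    have hne : Nat.card M ≠ 192 := fun h => hnJ ((eq_of_le_of_card_ge hJM (by rw [hJ, h])).symm ▸
      mem_inf.2 ⟨hnt, hnP⟩)
    obtain ⟨q, hq⟩ := h1
    have := Nat.le_of_dvd (by norm_num) h2
    have := Nat.card_pos (α := M)
    omega
  have hstab : N ⊓ cent t = cent t := by rw [inf_comm]; exact hMt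
  have hsub : orbC N t ⊆ (P : Set G) \ {1} := orbC_subset (A := (P : Set G) \ {1})
    (fun l hl x hx => ⟨conj_mem_of_mem_normalizer hl hx.1, by simpa using hx.2⟩) ⟨hVP ht4, by simpa using ht1⟩
  have hV3 := four_subset_orbit F hg ht4 ht1 hgP
  have hle : (orbC N t).ncard ≤ 15 := by
    refine (Set.ncard_le_ncard hsub (Set.toFinite _)).trans ?_
    rw [Set.ncard_sdiff (by simp), Set.ncard_singleton, ← Nat.card_coe_set_eq]
    simp only [SetLike.coe_sort_coe]
    rw [hP]
  have hmod := orbit_mod F hg ht hgt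
    (hsub.trans fun x hx => ⟨(mem_inf.1 hx.1).1, hx.2⟩) hV3
    fun x hx => conj_mem_orbC (hgP hgg) hx
  have hge := Set.ncard_le_ncard hV3 (Set.toFinite _)
  rw [four_ncard F hg] at hge
  have hcard := card_orbC N t
  rw [hstab, F.two t ht] at hcard
  have hdvd := Subgroup.card_subgroup_dvd_card N
  rw [F.card, ← hcard] at hdvd
  have hne3 : (orbC N t).ncard ≠ 3 := by
    intro h3
    have heq : (fourG g : Set G) \ {1} = orbC N t :=
      Set.eq_of_subset_of_ncard_le hV3 (by rw [h3, four_ncard F hg]) (Set.toFinite _)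
    have hQV : core t ≤ normalizer (fourG g : Set G) := fun c hc => mem_normalizer_of_conj fun x hx => by
      rcases eq_or_ne x 1 with rfl | hx1
      · rw [mul_one, mul_inv_cancel]; exact one_mem _
      · have h := conj_mem_orbC (hQP hc) (show x ∈ orbC N t from heq ▸ ⟨hx, hx1⟩)
        rw [← heq] at h
        exact h.1
    have hall : core t ≤ centralizer (fourG g : Set G) :=
      fun c hc => normalizer_part F ht hg hgt (mem_inf.2 ⟨hc, hQV hc⟩)
    rw [hPdef, inf_eq_left.2 hall, core_card F ht hg hgt] at hP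
    norm_num at hP
  refine exists_index_of_card F N ?_
  rw [← hcard]
  interval_cases hO : (orbC N t).ncard <;> omega

end Setting

section NoIndex

variable (F : Facts G) (hno : ¬ ∃ M : Subgroup G, M.index = 77)

include F hno

theorem core_le_cent_four {t g : G} (ht : orderOf t = 2) (hg : orderOf g = 3) (hgt : g ∈ cent t) :
    core t ≤ centralizer (fourG g : Set G) :=
  (part_card F ht hg hgt).resolve_left fun h => hno (exists_index_of_sixteen F ht hg hgt h)

theorem cent_norm_core {t g h : G} (ht : orderOf t = 2) (hg : orderOf g = 3) (hgt : g ∈ cent t)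
    (hh : h ∈ cent g) : h ∈ normalizer (core t : Set G) := by
  have := cent_norm_part F ht hg hgt hh
  rwa [inf_eq_left.2 (core_le_cent_four F hno ht hg hgt)] at this

/-- A subgroup of order 9 of `C(g)` containing `g`. -/
theorem exists_nine {g : G} (hg : orderOf g = 3) :
    ∃ L : Subgroup G, L ≤ cent g ∧ Nat.card L = 9 ∧ g ∈ L ∧ ∀ a ∈ L, ∀ b ∈ L, a * b = b * a := by
  haveI : Fact (Nat.Prime 3) := ⟨by norm_num⟩
  obtain ⟨K, hK, hle⟩ := Sylow.exists_subgroup_card_pow_prime_le (G := cent g) 3 (m := 2) (n := 1)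
    (by rw [F.three g hg]; norm_num) (zpowers (⟨g, mem_cent_iff.2 rfl⟩ : cent g))
    (by rw [Nat.card_zpowers, Subgroup.orderOf_mk, hg, pow_one]) (by norm_num)
  have hc : Nat.card (K.map (cent g).subtype) = 9 := by rw [card_map_subtype, hK]; norm_num
  refine ⟨K.map (cent g).subtype, Subgroup.map_subtype_le K, hc,
    ⟨⟨g, mem_cent_iff.2 rfl⟩, hle (mem_zpowers _), rfl⟩, fun a ha b hb => ?_⟩
  exact congrArg Subtype.val (IsPGroup.commutative_of_card_eq_prime_sq (p := 3) hc ⟨a, ha⟩ ⟨b, hb⟩)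

/-- An element of order 3 outside `⟨g⟩` fixing an element of the core outside the four group. -/
theorem exists_fixing {t g : G} (ht : orderOf t = 2) (hg : orderOf g = 3) (hgt : g ∈ cent t) {L : Subgroup G}
    (hL : L ≤ cent g) (hLc : Nat.card L = 9) (hgL : g ∈ L) {A : Set G} (hA : A ⊆ (core t : Set G))
    (hAV : ∀ x ∈ A, x ∉ fourG g) (hinv : ∀ l ∈ L, ∀ x ∈ A, l * x * l⁻¹ ∈ A) (h9 : ¬ 9 ∣ A.ncard) :
    ∃ k ∈ L, ∃ w ∈ A, orderOf k = 3 ∧ k ∉ zpowers g ∧ k * w = w * k := by
  by_contra hcon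
  push_neg at hcon
  refine h9 (hLc ▸ dvd_ncard_of_free L A hinv fun k hk x hx hc => ?_)
  by_contra hk1
  have hxg : ¬ g * x = x * g := fun h => hAV x hx
    (core_inf_cent F ht hg hgt hg (mem_inf.2 ⟨hA hx, mem_cent_iff.2 h.symm⟩))
  have hkz : k ∉ zpowers g := fun h => by
    have e : zpowers k = zpowers g := by
      refine eq_of_le_of_card_ge (zpowers_le.2 h) ?_
      have hd := Subgroup.card_dvd_of_le (zpowers_le.2 h)
      rw [Nat.card_zpowers, card_cube hg] at hd
      rw [card_cube hg, Nat.card_zpowers]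
      exact ((Nat.dvd_prime (by norm_num)).1 hd).resolve_left (fun h' => hk1 (orderOf_eq_one_iff.1 h')) |>.ge
    obtain ⟨i, hi⟩ := mem_zpowers_iff.1 (e.symm ▸ mem_zpowers g : g ∈ zpowers k)
    exact hxg (hi ▸ (Commute.zpow_left (hc : Commute k x) i).eq)
  have hd : orderOf k ∣ 3 ^ 2 := by
    have := orderOf_dvd_natCard (⟨k, hk⟩ : L)
    rw [Subgroup.orderOf_mk, hLc] at this
    norm_num
    exact this
  obtain ⟨j, hj, e⟩ := (Nat.dvd_prime_pow (show Nat.Prime 3 by norm_num)).1 hd
  interval_cases j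
  · exact hk1 (orderOf_eq_one_iff.1 (by rw [e, pow_zero]))
  · exact hcon k hk x hx (by rw [e, pow_one]) hkz hc
  · have e' : zpowers k = L := eq_of_le_of_card_ge (zpowers_le.2 hk) (by rw [Nat.card_zpowers, e, hLc]; norm_num)
    obtain ⟨i, hi⟩ := mem_zpowers_iff.1 (e'.symm ▸ hgL : g ∈ zpowers k)
    exact hxg (hi ▸ (Commute.zpow_left (hc : Commute k x) i).eq)

/-- The four group of such an element lies in the core. -/
theorem four_le_core_of {t g k w : G} (ht : orderOf t = 2) (hg : orderOf g = 3) (hgt : g ∈ cent t)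
    (hk : orderOf k = 3) (hkg : g ∈ cent k) (hw : w ∈ core t) (hwV : w ∉ fourG g) (hkw : k * w = w * k) :
    w ∈ fourG k ∧ fourG k ≤ core t := by
  have hw4 : w ∈ fourG k := core_inf_cent F ht hg hgt hk (mem_inf.2 ⟨hw, mem_cent_iff.2 hkw.symm⟩)
  have hw1 : w ≠ 1 := fun e => hwV (e ▸ one_mem _)
  refine ⟨hw4, four_le_of_two F hk hw4 (conj_mem_of_mem_normalizer (four_norm F hk hkg) hw4) hw1
    (by simpa using hw1) (fun e => hwV ?_) hw (conj_mem_of_mem_normalizer (g_norm_core F ht hg hgt) hw)⟩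
  exact core_inf_cent F ht hg hgt hg (mem_inf.2 ⟨hw, mem_cent_iff.2 (mul_inv_eq_iff_eq_mul.1 e).symm⟩)

theorem fours_disjoint {g k : G} (hg : orderOf g = 3) (hk : orderOf k = 3) (hc : g * k = k * g)
    (hkg : k ∉ zpowers g) : fourG g ⊓ fourG k = ⊥ :=
  eq_bot_iff.2 fun _ hx => mem_bot.2 (pair_trivial F hg hk hc hkg (four_sq F hg (mem_inf.1 hx).1)
    (mem_cent_iff.1 (four_le F hg (mem_inf.1 hx).1)).symm (mem_cent_iff.1 (four_le F hk (mem_inf.1 hx).2)).symm)

/-- The core is elementary abelian. -/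
theorem core_elementary {t g : G} (ht : orderOf t = 2) (hg : orderOf g = 3) (hgt : g ∈ cent t) :
    core t ≤ centralizer (core t : Set G) ∧ (∀ x ∈ core t, x * x = 1) ∧
      ∃ k w : G, orderOf k = 3 ∧ g * k = k * g ∧ k ∉ zpowers g ∧ k ∈ normalizer (core t : Set G) ∧
        w ∈ fourG k ∧ w ≠ 1 ∧ w ∈ core t := by
  obtain ⟨L, hLg, hLc, hgL, hLcomm⟩ := exists_nine F hno hg
  set Q := core t with hQ
  have hLQ : L ≤ normalizer (Q : Set G) := fun l hl => cent_norm_core F hno ht hg hgt (hLg hl)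
  have hVQ := four_le_core F ht hg hgt
  have hV := core_le_cent_four F hno ht hg hgt
  -- the second element of order 3
  have hA60 : ((Q : Set G) \ (fourG g : Set G)).ncard = 60 := by
    rw [Set.ncard_sdiff hVQ, ← Nat.card_coe_set_eq, ← Nat.card_coe_set_eq]
    simp only [SetLike.coe_sort_coe]
    rw [core_card F ht hg hgt, four_card F hg]
  have hLV : L ≤ normalizer (fourG g : Set G) := hLg.trans (four_norm F hg)
  obtain ⟨k, hkL, w, ⟨hwQ, hwV⟩, hk, hkz, hkw⟩ := exists_fixing F hno ht hg hgt hLg hLc hgL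
    (A := (Q : Set G) \ (fourG g : Set G)) Set.sdiff_subset (fun x hx => hx.2)
    (fun l hl x hx => ⟨conj_mem_of_mem_normalizer (hLQ hl) hx.1, fun h => hx.2 (by
      have := conj_mem_of_mem_normalizer (inv_mem (hLV hl)) h
      simpa [mul_assoc] using this)⟩) (by rw [hA60]; norm_num)
  have hgk : g * k = k * g := hLcomm g hgL k hkL
  have hgck : g ∈ cent k := mem_cent_iff.2 hgk
  obtain ⟨hw4, hWQ⟩ := four_le_core_of F hno ht hg hgt hk hgck hwQ hwV hkw
  have hw1 : w ≠ 1 := fun e => hwV (e ▸ one_mem _)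
  have hLk : L ≤ cent k := fun l hl => mem_cent_iff.2 (hLcomm l hl k hkL)
  have hLW : L ≤ normalizer (fourG k : Set G) := hLk.trans (four_norm F hk)
  have hw2 : orderOf w = 2 := orderOf_two (four_sq F hk hw4) hw1
  have hkcw : k ∈ cent w := mem_cent_iff.2 hkw
  -- the subgroup of order 16
  set E := fourG g ⊔ fourG k with hE
  have hWnV : fourG g ≤ normalizer (fourG k : Set G) := fun v hv => mem_normalizer_of_conj fun x hx => by
    rw [mem_centralizer_iff.1 (hV (hWQ hx)) v hv, mul_inv_cancel_right]; exact hx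
  have hdj := fours_disjoint F hno hg hk hgk hkz
  have hE16 : Nat.card E = 16 := by
    rw [hE, card_sup_of_disjoint hWnV hdj, four_card F hg, four_card F hk]
  have hEQ : E ≤ Q := sup_le hVQ hWQ
  have hLE : L ≤ normalizer (E : Set G) := fun l hl => mem_normalizer_of_conj fun x hx => by
    obtain ⟨v, hv, u, hu, rfl⟩ := (mem_sup_normalizing hWnV).1 hx
    rw [show l * (v * u) * l⁻¹ = (l * v * l⁻¹) * (l * u * l⁻¹) by group]
    exact mul_mem (mem_sup_left (conj_mem_of_mem_normalizer (hLV hl) hv))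
      (mem_sup_right (conj_mem_of_mem_normalizer (hLW hl) hu))
  have hQE := grow F ht hg hgt hEQ le_sup_left hE16 (hLE hgL)
  have hVw : fourG g ≤ core w := le_core F hw2 hk hkcw _
    (IsPGroup.of_card (n := 2) (by rw [four_card F hg]; rfl))
    (fun v hv => mem_cent_iff.2 (mem_centralizer_iff.1 (hV hwQ) v hv))
    (hLV hkL)
  have hEw : E ≤ core w := sup_le hVw (four_le_core F hw2 hk hkcw)
  have hwE := grow F hw2 hk hkcw hEw le_sup_right hE16 (hLE hkL)
  by_cases hB : core w ≤ centralizer (fourG g : Set G)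
  · -- the core is abelian
    have hle : core w ≤ Q := le_core F ht hg hgt _ (core_isPGroup F hw2 hk hkcw)
      (fun x hx => mem_cent_iff.2 (mem_centralizer_iff.1 (hB hx) t (t_mem_four F ht hg hgt)).symm)
      (cent_norm_core F hno hw2 hk hkcw hgck)
    have heq : core w = Q := eq_of_le_of_card_ge hle (by
      rw [hQ, core_card F ht hg hgt, core_card F hw2 hk hkcw])
    have hW : Q ≤ centralizer (fourG k : Set G) := heq ▸ core_le_cent_four F hno hw2 hk hkcw
    have hA48 : ((Q : Set G) \ (E : Set G)).ncard = 48 := by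
      rw [Set.ncard_sdiff hEQ, ← Nat.card_coe_set_eq, ← Nat.card_coe_set_eq]
      simp only [SetLike.coe_sort_coe]
      rw [core_card F ht hg hgt, hE16]
    obtain ⟨l, hlL, x, ⟨hxQ, hxE⟩, hl, hlz, hlx⟩ := exists_fixing F hno ht hg hgt hLg hLc hgL
      (A := (Q : Set G) \ (E : Set G)) Set.sdiff_subset (fun x hx h => hx.2 (mem_sup_left h))
      (fun l hl x hx => ⟨conj_mem_of_mem_normalizer (hLQ hl) hx.1, fun h => hx.2 (by
        have := conj_mem_of_mem_normalizer (inv_mem (hLE hl)) h
        simpa [mul_assoc] using this)⟩) (by rw [hA48]; norm_num)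
    have hgl : g * l = l * g := hLcomm g hgL l hlL
    have hkl : k * l = l * k := hLcomm k hkL l hlL
    obtain ⟨hx4, hUQ⟩ := four_le_core_of F hno ht hg hgt hl (mem_cent_iff.2 hgl) hxQ
      (fun h => hxE (mem_sup_left h)) hlx
    have hlk : l ∉ zpowers k := fun h => by
      refine hxE (mem_sup_right (core_inf_cent F ht hg hgt hk (mem_inf.2 ⟨hxQ, mem_cent_iff.2 ?_⟩)))
      have e : zpowers l = zpowers k := eq_of_le_of_card_ge (zpowers_le.2 h) (by rw [card_cube hk, card_cube hl])
      obtain ⟨i, hi⟩ := mem_zpowers_iff.1 (e.symm ▸ mem_zpowers k : k ∈ zpowers l)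
      exact hi ▸ (Commute.zpow_left (hlx : Commute l x) i).eq.symm
    have hUn : fourG l ≤ normalizer (E : Set G) := hUQ.trans hQE
    have hdj2 : fourG l ⊓ E = ⊥ := by
      refine eq_bot_iff.2 fun y hy => mem_bot.2 ?_
      obtain ⟨hyl, hyE⟩ := mem_inf.1 hy
      obtain ⟨v, hv, u, hu, rfl⟩ := (mem_sup_normalizing hWnV).1 hyE
      have hfix : l * v * l⁻¹ * (l * u * l⁻¹) = v * u := by
        rw [show l * v * l⁻¹ * (l * u * l⁻¹) = l * (v * u) * l⁻¹ by group,
          ← mem_cent_iff.1 (four_le F hl hyl), mul_inv_cancel_right]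
      have hv' := conj_mem_of_mem_normalizer (hLV hlL) hv
      have hu' := conj_mem_of_mem_normalizer (hLW hlL) hu
      have huv : v⁻¹ * (l * v * l⁻¹) = u * (l * u * l⁻¹)⁻¹ := by
        rw [eq_mul_inv_iff_mul_eq, mul_assoc, hfix, inv_mul_cancel_left]
      have h1 : v⁻¹ * (l * v * l⁻¹) = 1 := mem_bot.1 (hdj ▸ mem_inf.2
        ⟨mul_mem (inv_mem hv) hv', huv ▸ mul_mem hu (inv_mem hu')⟩)
      have hv1 : v = 1 := pair_trivial F hg hl hgl hlz (four_sq F hg hv)
        (mem_cent_iff.1 (four_le F hg hv)).symm (mul_inv_eq_iff_eq_mul.1 (inv_mul_eq_one.1 h1).symm)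
      have hu1 : u = 1 := pair_trivial F hk hl hkl hlk (four_sq F hk hu)
        (mem_cent_iff.1 (four_le F hk hu)).symm (mul_inv_eq_iff_eq_mul.1
          (mul_inv_eq_one.1 (huv.symm.trans h1)).symm)
      rw [hv1, hu1, one_mul]
    have htop : fourG l ⊔ E = Q := eq_of_le_of_card_ge (sup_le hUQ hEQ) (by
      rw [hQ, core_card F ht hg hgt, card_sup_of_disjoint hUn hdj2, four_card F hl, hE16])
    have hEc : E ≤ centralizer (Q : Set G) := by
      refine sup_le ?_ ?_
      · exact fun v hv => mem_centralizer_iff.2 fun y hy => (mem_centralizer_iff.1 (hV hy) v hv).symm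
      · exact fun v hv => mem_centralizer_iff.2 fun y hy => (mem_centralizer_iff.1 (hW hy) v hv).symm
    have hUc : fourG l ≤ centralizer (Q : Set G) := fun u hu => mem_centralizer_iff.2 fun y hy => by
      have hy' : y ∈ fourG l ⊔ E := htop.symm ▸ hy
      obtain ⟨a, ha, b, hb, rfl⟩ := (mem_sup_normalizing hUn).1 hy'
      rw [mul_assoc, ← mem_centralizer_iff.1 (hEc hb) u (hUQ hu), ← mul_assoc, four_comm F hl ha hu, mul_assoc]
    have hab : Q ≤ centralizer (Q : Set G) := htop ▸ sup_le (htop.symm ▸ hUc) (htop.symm ▸ hEc)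
    refine ⟨hab, fun y hy => ?_, k, w, hk, hgk, hkz, hLQ hkL, hw4, hw1, hwQ⟩
    obtain ⟨a, ha, b, hb, rfl⟩ := (mem_sup_normalizing hUn).1 (htop.symm ▸ hy)
    obtain ⟨v, hv, u, hu, rfl⟩ := (mem_sup_normalizing hWnV).1 hb
    have c1 : v * u * a = a * (v * u) := (mem_centralizer_iff.1 (hab (hEQ hb)) a (hUQ ha)).symm
    have c2 : u * v = v * u := mem_centralizer_iff.1 (hab (hVQ hv)) u (hWQ hu)
    calc a * (v * u) * (a * (v * u)) = a * (v * u * a) * (v * u) := by group
      _ = a * a * (v * (u * v) * u) := by rw [c1]; group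
      _ = a * a * (v * v * (u * u)) := by rw [c2]; group
      _ = 1 := by rw [four_sq F hl ha, four_sq F hg hv, four_sq F hk hu]; simp
  · -- the normaliser of `E` is transitive on `E`
    exfalso
    set N := normalizer (E : Set G) with hN
    have ht4 := t_mem_four F ht hg hgt
    have ht1 := ne_one_of_orderOf (by norm_num) ht
    have hwW : core w ≤ centralizer (fourG k : Set G) := core_le_cent_four F hno hw2 hk hkcw
    -- `k` is transitive on the four group of `g`
    have hkfree : ∀ v ∈ fourG g, k * v = v * k → v = 1 := fun v hv h =>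
      pair_trivial F hg hk hgk hkz (four_sq F hg hv) (mem_cent_iff.1 (four_le F hg hv)).symm h
    have hV3 : (fourG g : Set G) \ {1} ⊆ orbC N t := by
      have hsub : orbC (zpowers k) t ⊆ (fourG g : Set G) \ {1} := orbC_subset (A := (fourG g : Set G) \ {1})
        (fun l hl x hx => ⟨conj_mem_of_mem_normalizer ((zpowers_le.2 (hLV hkL)) hl) hx.1, by simpa using hx.2⟩)
        ⟨ht4, by simpa using ht1⟩
      have hstab : zpowers k ⊓ cent t = ⊥ := by
        refine Subgroup.eq_bot_of_card_eq _ ?_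
        have h := Subgroup.card_dvd_of_le (inf_le_left : zpowers k ⊓ cent t ≤ zpowers k)
        rw [card_cube hk] at h
        refine ((Nat.dvd_prime (by norm_num)).1 h).resolve_right fun h3 => ?_
        have e := eq_of_le_of_card_ge (inf_le_left : zpowers k ⊓ cent t ≤ zpowers k) (by rw [card_cube hk, h3])
        exact ht1 (hkfree t ht4 (mem_cent_iff.1 (e.symm ▸ mem_zpowers k : k ∈ zpowers k ⊓ cent t).2))
      have h := card_orbC (zpowers k) t
      rw [hstab, card_bot, mul_one, card_cube hk] at h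
      rw [← Set.eq_of_subset_of_ncard_le hsub (by rw [four_ncard F hg, h]) (Set.toFinite _)]
      exact Set.image_mono (zpowers_le.2 (hLE hkL))
    -- an element of the other core moving the four group out of itself
    obtain ⟨y, hy, v, hv, hm⟩ : ∃ y ∈ core w, ∃ v ∈ fourG g, y * v * y⁻¹ ∉ fourG g := by
      by_contra hcon
      push_neg at hcon
      refine hB ?_
      haveI : Fact (Nat.Prime 2) := ⟨by norm_num⟩
      have h := ncard_modEq_fixed (p := 2) (L := core w) (core_isPGroup F hw2 hk hkcw)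
        ((fourG g : Set G) \ {1}) (fun l hl x hx => ⟨hcon l hl x hx.1, by simpa using hx.2⟩)
      rw [four_ncard F hg] at h
      obtain ⟨v0, ⟨hv0, hv1⟩, hfix⟩ : {x ∈ (fourG g : Set G) \ {1} | ∀ l ∈ core w, l * x = x * l}.Nonempty := by
        refine Set.nonempty_iff_ne_empty.2 fun he => ?_
        rw [he] at h
        simp at h
      have hkn : k⁻¹ ∈ normalizer (core w : Set G) := inv_mem (g_norm_core F hw2 hk hkcw)
      have hv1' : v0 ≠ 1 := by simpa using hv1
      have hfix' : k * v0 * k⁻¹ ∈ centralizer (core w : Set G) := mem_centralizer_iff.2 fun l hl => by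
        have hl' : k⁻¹ * l * k⁻¹⁻¹ ∈ core w := conj_mem_of_mem_normalizer hkn hl
        calc l * (k * v0 * k⁻¹) = k * (k⁻¹ * l * k⁻¹⁻¹ * v0) * k⁻¹ := by group
          _ = k * (v0 * (k⁻¹ * l * k⁻¹⁻¹)) * k⁻¹ := by rw [hfix _ hl']
          _ = k * v0 * k⁻¹ * l := by group
      have hle : fourG g ≤ centralizer (core w : Set G) := four_le_of_two F hg hv0
        (conj_mem_of_mem_normalizer (hLV hkL) hv0) hv1' (by simpa using hv1')
        (fun e => hv1' (hkfree v0 hv0 (mul_inv_eq_iff_eq_mul.1 e)))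
        (mem_centralizer_iff.2 fun l hl => hfix l hl) hfix'
      exact fun z hz => mem_centralizer_iff.2 fun u hu => (mem_centralizer_iff.1 (hle hu) z hz).symm
    set m := y * v * y⁻¹ with hmdef
    have hv1 : v ≠ 1 := fun e => hm (by rw [hmdef, e]; simp)
    have hmE : m ∈ E := conj_mem_of_mem_normalizer (hwE hy) (mem_sup_left hv)
    have hmO : m ∈ orbC N t := conj_mem_orbC (hwE hy) (hV3 ⟨hv, by simpa using hv1⟩)
    obtain ⟨a, ha, b, hb, hab⟩ := (mem_sup_normalizing hWnV).1 hmE
    have hb1 : b ≠ 1 := fun e => hm (by rw [← hab, e, mul_one]; exact ha)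
    have ha1 : a ≠ 1 := fun e => by
      have hmW : m ∈ fourG k := by rw [← hab, e, one_mul]; exact hb
      have hvm : v = m := by
        have := mem_centralizer_iff.1 (hwW (inv_mem hy)) m hmW
        calc v = y⁻¹ * m * y := by rw [hmdef]; group
          _ = m := by rw [← this]; group
      exact hm (hvm ▸ hv)
    -- the orbit of `m` under the group of order 9
    have hLm : L ⊓ cent m = ⊥ := by
      refine eq_bot_iff.2 fun l hl => mem_bot.2 ?_
      obtain ⟨hlL, hlm⟩ := mem_inf.1 hl
      have hla := conj_mem_of_mem_normalizer (hLV hlL) ha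
      have hlb := conj_mem_of_mem_normalizer (hLW hlL) hb
      have hfix : l * a * l⁻¹ * (l * b * l⁻¹) = a * b := by
        rw [show l * a * l⁻¹ * (l * b * l⁻¹) = l * (a * b) * l⁻¹ by group, hab, mem_cent_iff'.1 hlm]
      have huv : a⁻¹ * (l * a * l⁻¹) = b * (l * b * l⁻¹)⁻¹ := by
        rw [eq_mul_inv_iff_mul_eq, mul_assoc, hfix, inv_mul_cancel_left]
      have h1 : a⁻¹ * (l * a * l⁻¹) = 1 := mem_bot.1 (hdj ▸ mem_inf.2
        ⟨mul_mem (inv_mem ha) hla, huv ▸ mul_mem hb (inv_mem hlb)⟩)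
      have hla' : l * a = a * l := mul_inv_eq_iff_eq_mul.1 (inv_mul_eq_one.1 h1).symm
      have hlb' : l * b = b * l := mul_inv_eq_iff_eq_mul.1 (mul_inv_eq_one.1 (huv.symm.trans h1)).symm
      -- the stabiliser of `a` is `⟨g⟩`
      have hLa : L ⊓ cent a = zpowers g := by
        refine (eq_of_le_of_card_ge (zpowers_le.2 (mem_inf.2 ⟨hgL, mem_cent_iff.2
          (mem_cent_iff.1 (four_le F hg ha)).symm⟩)) ?_).symm
        rw [card_cube hg]
        have h := Subgroup.card_dvd_of_le (inf_le_left : L ⊓ cent a ≤ L)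
        rw [hLc, show (9 : ℕ) = 3 ^ 2 by norm_num] at h
        obtain ⟨i, hi, e⟩ := (Nat.dvd_prime_pow (show Nat.Prime 3 by norm_num)).1 h
        interval_cases i
        · rw [e]; norm_num
        · rw [e]; norm_num
        · exfalso
          refine not_nine F (orderOf_two (four_sq F hg ha) ha1) _ (e.trans (by norm_num)) fun z hz => ?_
          exact mem_cent_iff.1 (mem_inf.1 hz).2
      have hlz : l ∈ zpowers g := hLa ▸ mem_inf.2 ⟨hlL, mem_cent_iff.2 hla'⟩
      by_contra hl1
      have e : zpowers l = zpowers g := by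
        refine eq_of_le_of_card_ge (zpowers_le.2 hlz) ?_
        have hd := Subgroup.card_dvd_of_le (zpowers_le.2 hlz)
        rw [Nat.card_zpowers, card_cube hg] at hd
        rw [card_cube hg, Nat.card_zpowers]
        exact ((Nat.dvd_prime (by norm_num)).1 hd).resolve_left (fun h' => hl1 (orderOf_eq_one_iff.1 h')) |>.ge
      obtain ⟨i, hi⟩ := mem_zpowers_iff.1 (e.symm ▸ mem_zpowers g : g ∈ zpowers l)
      have hgb : g * b = b * g := hi ▸ (Commute.zpow_left (hlb' : Commute l b) i).eq
      exact hb1 (pair_trivial F hk hg hgk.symm (fun h => by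
        have e2 : zpowers g = zpowers k :=
          eq_of_le_of_card_ge (zpowers_le.2 h) (by rw [card_cube hk, card_cube hg])
        exact hkz (e2.symm ▸ mem_zpowers k)) (four_sq F hk hb) (mem_cent_iff.1 (four_le F hk hb)).symm hgb)
    have h9 : (orbC L m).ncard = 9 := by
      have h := card_orbC L m
      rwa [hLm, card_bot, mul_one, hLc] at h
    have hdisjoint : Disjoint ((fourG g : Set G) \ {1}) (orbC L m) := by
      rw [Set.disjoint_left]
      rintro x ⟨hx, -⟩ hxo
      obtain ⟨l, hl, rfl⟩ := mem_orbC.1 hxo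
      have := conj_mem_of_mem_normalizer (inv_mem (hLV hl)) hx
      exact hm (by simpa [mul_assoc] using this)
    have hsub2 : (fourG g : Set G) \ {1} ∪ orbC L m ⊆ orbC N t :=
      Set.union_subset hV3 (orbC_subset (fun l hl x hx => conj_mem_orbC (hLE hl) hx) hmO)
    have hge := Set.ncard_le_ncard hsub2 (Set.toFinite _)
    rw [Set.ncard_union_eq hdisjoint (Set.toFinite _) (Set.toFinite _), four_ncard F hg, h9] at hge
    have hsub : orbC N t ⊆ (E : Set G) \ {1} := orbC_subset (A := (E : Set G) \ {1})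
      (fun l hl x hx => ⟨conj_mem_of_mem_normalizer hl hx.1, by simpa using hx.2⟩)
      ⟨mem_sup_left ht4, by simpa using ht1⟩
    have hle : (orbC N t).ncard ≤ 15 := by
      refine (Set.ncard_le_ncard hsub (Set.toFinite _)).trans ?_
      rw [Set.ncard_sdiff (by simp), Set.ncard_singleton, ← Nat.card_coe_set_eq]
      simp only [SetLike.coe_sort_coe]
      rw [hE16]
    have hmod := orbit_mod F hg ht hgt (hsub.trans fun x hx => ⟨hEQ hx.1, hx.2⟩) hV3
      fun x hx => conj_mem_orbC (hLE hgL) hx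
    have hcard := card_orbC N t
    have hdvd := Subgroup.card_subgroup_dvd_card N
    rw [F.card, ← hcard] at hdvd
    have h192 : Nat.card ↥(N ⊓ cent t) = 192 ∨ Nat.card ↥(N ⊓ cent t) = 384 := by
      have h1 := Subgroup.card_dvd_of_le (inf_le_right : N ⊓ cent t ≤ cent t)
      rw [F.two t ht] at h1
      have h2 := Subgroup.card_dvd_of_le (le_inf hQE (core_le t) : Q ≤ N ⊓ cent t)
      rw [hQ, core_card F ht hg hgt] at h2
      have h3 := Subgroup.card_dvd_of_le (zpowers_le.2 (mem_inf.2 ⟨hLE hgL, hgt⟩) : zpowers g ≤ N ⊓ cent t)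
      rw [card_cube hg] at h3
      obtain ⟨q, hq⟩ := Nat.Coprime.mul_dvd_of_dvd_of_dvd (m := 64) (n := 3) (by norm_num) h2 h3
      have := Nat.le_of_dvd (by norm_num) h1
      have := Nat.card_pos (α := ↥(N ⊓ cent t))
      omega
    have h15 : (orbC N t).ncard = 15 := by
      rcases h192 with e | e <;> rw [e] at hdvd <;> interval_cases hO : (orbC N t).ncard <;> omega
    rcases h192 with e | e <;> rw [e, h15] at hcard
    · exact no_five F N hcard.symm
    · exact hno (exists_index_of_card F N hcard.symm)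

/-- The cores of the involutions of a core coincide with it. -/
theorem core_eq {t g x : G} (ht : orderOf t = 2) (hg : orderOf g = 3) (hgt : g ∈ cent t) (hxt : x ∈ core t)
    (hx : orderOf x = 2) : core x = core t := by
  haveI : Fact (Nat.Prime 2) := ⟨by norm_num⟩
  haveI : Fact (Nat.Prime 3) := ⟨by norm_num⟩
  obtain ⟨hab, -, -⟩ := core_elementary F hno ht hg hgt
  obtain ⟨g', hg't, hg'⟩ := exists_orderOf_dvd_subgroup (cent x) (show Nat.Prime 3 by norm_num)
    (by rw [F.two x hx]; norm_num)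
  obtain ⟨hab', -, -⟩ := core_elementary F hno hx hg' hg't
  set Q := core t with hQdef
  have hQx : Q ≤ cent x := fun q hq => mem_cent_iff.2 (mem_centralizer_iff.1 (hab hxt) q hq)
  have hQ : Nat.card Q = 64 := core_card F ht hg hgt
  have hQ' : Nat.card (core x) = 64 := core_card F hx hg' hg't
  refine eq_of_le_of_card_ge ?_ (by rw [hQ, hQ']) |>.symm
  intro s hs
  by_contra hsx
  set R := Q ⊓ core x with hR
  have h32 : 32 ≤ Nat.card R := by
    have hM : IsPGroup 2 (Q ⊔ core x : Subgroup G) := IsPGroup.to_sup_of_normal_right'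
      (core_isPGroup F ht hg hgt) (core_isPGroup F hx hg' hg't) (hQx.trans (cent_le_normalizer_core x))
    have hMd := Subgroup.card_dvd_of_le (sup_le hQx (core_le x) : Q ⊔ core x ≤ cent x)
    rw [F.two x hx] at hMd
    obtain ⟨k, hk⟩ := IsPGroup.iff_card.1 hM
    rw [hk] at hMd
    have hk8 : k < 8 := by
      by_contra h
      have : 2 ^ 8 ∣ 384 := (pow_dvd_pow 2 (not_lt.1 h)).trans hMd
      norm_num at this
    have h := card_mul_le (A := Q) (B := core x) (M := Q ⊔ core x) le_sup_left le_sup_right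
    rw [hQ, hQ', hk] at h
    have : (2 : ℕ) ^ k ≤ 128 := (Nat.pow_le_pow_right (by norm_num) (Nat.le_of_lt_succ hk8)).trans (by norm_num)
    nlinarith
  have hgn := g_norm_core F hx hg' hg't
  set R' := conjS g' R with hR'
  have hR'le : R' ≤ core x := by
    intro z hz
    obtain ⟨r, hr, rfl⟩ := mem_conjS.1 hz
    exact conj_mem_of_mem_normalizer hgn (mem_inf.1 hr).2
  set I := R ⊓ R' with hI
  have h16 : 16 ≤ Nat.card I := by
    have h := card_mul_le (inf_le_right : R ≤ core x) hR'le
    rw [hQ', card_conjS] at h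
    nlinarith
  set D := cent x ⊓ centralizer (I : Set G) with hD
  have hsD : s ∈ D := mem_inf.2 ⟨hQx hs, mem_centralizer_iff.2 fun z hz =>
    mem_centralizer_iff.1 (hab hs) z (mem_inf.1 (mem_inf.1 hz).1).1⟩
  have hsD' : g' * s * g'⁻¹ ∈ D := by
    refine mem_inf.2 ⟨mul_mem (mul_mem hg't (hQx hs)) (inv_mem hg't), mem_centralizer_iff.2 fun z hz => ?_⟩
    obtain ⟨r, hr, rfl⟩ := mem_conjS.1 (mem_inf.1 hz).2
    calc g' * r * g'⁻¹ * (g' * s * g'⁻¹) = g' * (r * s) * g'⁻¹ := by group
      _ = g' * (s * r) * g'⁻¹ := by rw [mem_centralizer_iff.1 (hab hs) r (mem_inf.1 hr).1]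
      _ = g' * s * g'⁻¹ * (g' * r * g'⁻¹) := by group
  have h3 : 3 ∣ Nat.card D := by
    by_contra h
    have hd := Subgroup.card_dvd_of_le (inf_le_left : D ≤ cent x)
    rw [F.two x hx, show (384 : ℕ) = 3 * 2 ^ 7 by norm_num] at hd
    have hd' := ((Nat.Prime.coprime_iff_not_dvd (by norm_num)).2 h).symm.dvd_of_dvd_mul_left hd
    obtain ⟨i, -, hi⟩ := (Nat.dvd_prime_pow Nat.prime_two).1 hd'
    exact hsx (mem_core_of_pair F hx hg' hg't D (IsPGroup.of_card hi) inf_le_left hsD hsD')
  obtain ⟨g'', hg''D, hg''⟩ := exists_orderOf_dvd_subgroup D (show Nat.Prime 3 by norm_num) h3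
  have hle : I ≤ fourG g'' := fun z hz => core_inf_cent F hx hg' hg't hg''
    (mem_inf.2 ⟨(mem_inf.1 (mem_inf.1 hz).1).2, mem_cent_iff.2
      (mem_centralizer_iff.1 (mem_inf.1 hg''D).2 z hz)⟩)
  have := Subgroup.card_le_of_le hle
  rw [four_card F hg''] at this
  omega

theorem no_index_false : False := by
  obtain ⟨t, ht⟩ : ∃ t : G, orderOf t = 2 :=
    haveI : Fact (Nat.Prime 2) := ⟨by norm_num⟩
    exists_prime_orderOf_dvd_card' (G := G) 2 (by rw [F.card]; norm_num)
  obtain ⟨g, hgt, hg⟩ := exists_orderOf_dvd_subgroup (cent t) (show Nat.Prime 3 by norm_num)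
    (by rw [F.two t ht]; norm_num)
  obtain ⟨hab, hsq, k, w, hk, hgk, hkz, hkQ, hw4, hw1, hwQ⟩ := core_elementary F hno ht hg hgt
  set Q := core t with hQdef
  set N := normalizer (Q : Set G) with hN
  have hord : ∀ x ∈ (Q : Set G) \ {1}, orderOf x = 2 := fun x hx =>
    orderOf_two (hsq x hx.1) (by simpa using hx.2)
  have horb : ∀ x ∈ (Q : Set G) \ {1}, (orbC N x).ncard * 384 = Nat.card N := fun x hx => by
    have hle : cent x ≤ N := by
      rw [hN, hQdef, ← core_eq F hno ht hg hgt hx.1 (hord x hx)]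
      exact cent_le_normalizer_core x
    have h := card_orbC N x
    rwa [inf_eq_right.2 hle, F.two x (hord x hx)] at h
  have ht4 := t_mem_four F ht hg hgt
  have ht1 := ne_one_of_orderOf (by norm_num) ht
  have htQ : t ∈ (Q : Set G) \ {1} := ⟨four_le_core F ht hg hgt ht4, by simpa using ht1⟩
  set O := (orbC N t).ncard with hO
  have hall : ∀ x ∈ (Q : Set G) \ {1}, (orbC N x).ncard = O := fun x hx => by
    have h1 := horb x hx
    have h2 := horb t htQ
    omega
  have h63 : O ∣ 63 := by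
    have h := dvd_ncard_of_orbits N ((Q : Set G) \ {1}) O
      (fun l hl x hx => ⟨conj_mem_of_mem_normalizer hl hx.1, by simpa using hx.2⟩) hall
    rwa [Set.ncard_sdiff (by simp), Set.ncard_singleton, ← Nat.card_coe_set_eq, SetLike.coe_sort_coe,
      core_card F ht hg hgt] at h
  -- the orbit of a mixed element
  set m := t * w with hm
  have hmQ : m ∈ (Q : Set G) \ {1} := ⟨mul_mem htQ.1 hwQ, fun h => by
    have htw : t = w := by
      have hwi : w⁻¹ = w := inv_eq_of_mul_eq_one_right (four_sq F hk hw4)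
      rw [Set.mem_singleton_iff, hm, mul_eq_one_iff_eq_inv, hwi] at h
      exact h
    exact ht1 (mem_bot.1 (fours_disjoint F hno hg hk hgk hkz ▸ mem_inf.2 ⟨ht4, htw ▸ hw4⟩))⟩
  set L := zpowers g ⊔ zpowers k with hL
  have hnk : zpowers g ≤ normalizer (zpowers k : Set G) := zpowers_le.2 (mem_normalizer_of_conj fun y hy => by
    obtain ⟨i, rfl⟩ := mem_zpowers_iff.1 hy
    rw [(Commute.zpow_right hgk i : Commute g (k ^ i)).eq, mul_inv_cancel_right]
    exact hy)
  have hLN : L ≤ N := sup_le (zpowers_le.2 (g_norm_core F ht hg hgt)) (zpowers_le.2 hkQ)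
  have hLm : L ⊓ cent m = ⊥ := by
    refine eq_bot_iff.2 fun l hl => mem_bot.2 ?_
    obtain ⟨hlL, hlm⟩ := mem_inf.1 hl
    obtain ⟨a, ha, b, hb, rfl⟩ := (mem_sup_normalizing hnk).1 hlL
    have hgV : g ∈ cent g := mem_cent_iff.2 rfl
    have hkV : k ∈ cent g := mem_cent_iff.2 hgk.symm
    have hgW : g ∈ cent k := mem_cent_iff.2 hgk
    have hlg : a * b ∈ cent g := mul_mem ((zpowers_le.2 hgV) ha) ((zpowers_le.2 hkV) hb)
    have hlk : a * b ∈ cent k :=
      mul_mem ((zpowers_le.2 hgW) ha) ((zpowers_le.2 (mem_cent_iff.2 rfl : k ∈ cent k)) hb)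
    set l := a * b with hldef
    have hlt := conj_mem_of_mem_normalizer (four_norm F hg hlg) ht4
    have hlw := conj_mem_of_mem_normalizer (four_norm F hk hlk) hw4
    have hfix : l * t * l⁻¹ * (l * w * l⁻¹) = t * w := by
      rw [show l * t * l⁻¹ * (l * w * l⁻¹) = l * (t * w) * l⁻¹ by group, ← hm, mem_cent_iff'.1 hlm]
    have huv : t⁻¹ * (l * t * l⁻¹) = w * (l * w * l⁻¹)⁻¹ := by
      rw [eq_mul_inv_iff_mul_eq, mul_assoc, hfix, inv_mul_cancel_left]
    have h1 : t⁻¹ * (l * t * l⁻¹) = 1 := mem_bot.1 (fours_disjoint F hno hg hk hgk hkz ▸ mem_inf.2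
      ⟨mul_mem (inv_mem ht4) hlt, huv ▸ mul_mem hw4 (inv_mem hlw)⟩)
    have hlt' : l * t = t * l := mul_inv_eq_iff_eq_mul.1 (inv_mul_eq_one.1 h1).symm
    have hlw' : l * w = w * l := mul_inv_eq_iff_eq_mul.1 (mul_inv_eq_one.1 (huv.symm.trans h1)).symm
    -- `a` commutes with `t`, so `b` does; a nontrivial power of `k` does not
    obtain ⟨i, rfl⟩ := mem_zpowers_iff.1 ha
    obtain ⟨j, rfl⟩ := mem_zpowers_iff.1 hb
    have hgt' : Commute g t := (mem_cent_iff.1 hgt)
    have hkw' : Commute k w := (mem_cent_iff.1 (four_le F hk hw4) : Commute w k).symm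
    have hbt : Commute (k ^ j) t := by
      have h : k ^ j = (g ^ i)⁻¹ * l := by rw [hldef]; group
      rw [h]
      exact ((hgt'.zpow_left i).inv_left).mul_left hlt'
    have haw : Commute (g ^ i) w := by
      have h : g ^ i = l * (k ^ j)⁻¹ := by rw [hldef]; group
      rw [h]
      exact Commute.mul_left hlw' ((hkw'.zpow_left j).inv_left)
    have hpow : ∀ {u : G} {i : ℤ} {x : G}, orderOf u = 3 → Commute (u ^ i) x → u ^ i ≠ 1 → Commute u x := by
      intro u i x hu hc hne
      have e : zpowers (u ^ i) = zpowers u := by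
        refine eq_of_le_of_card_ge (zpowers_le.2 (zpow_mem (mem_zpowers u) i)) ?_
        have hd := Subgroup.card_dvd_of_le (zpowers_le.2 (zpow_mem (mem_zpowers u) i))
        rw [Nat.card_zpowers, card_cube hu] at hd
        rw [card_cube hu, Nat.card_zpowers]
        exact ((Nat.dvd_prime (by norm_num)).1 hd).resolve_left (fun h' => hne (orderOf_eq_one_iff.1 h')) |>.ge
      obtain ⟨q, hq⟩ := mem_zpowers_iff.1 (e.symm ▸ mem_zpowers u : u ∈ zpowers (u ^ i))
      exact hq ▸ hc.zpow_left q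
    have hb1 : k ^ j = 1 := by
      by_contra hne
      exact ht1 (pair_trivial F hg hk hgk hkz (four_sq F hg ht4) hgt'.eq (hpow hk hbt hne).eq)
    have ha1 : g ^ i = 1 := by
      by_contra hne
      exact hw1 (pair_trivial F hg hk hgk hkz (four_sq F hk hw4) (hpow hg haw hne).eq hkw'.eq)
    rw [hldef, ha1, hb1, one_mul]
  have h9 : 9 ≤ O := by
    rw [← hall m hmQ]
    have h := card_orbC L m
    have hd : zpowers g ⊓ zpowers k = ⊥ := by
      refine Subgroup.eq_bot_of_card_eq _ ?_
      have h := Subgroup.card_dvd_of_le (inf_le_left : zpowers g ⊓ zpowers k ≤ zpowers g)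
      rw [card_cube hg] at h
      refine ((Nat.dvd_prime (by norm_num)).1 h).resolve_right fun h3 => hkz ?_
      have e1 := eq_of_le_of_card_ge (inf_le_right : zpowers g ⊓ zpowers k ≤ zpowers k) (by rw [card_cube hk, h3])
      exact (e1.symm ▸ mem_zpowers k : k ∈ zpowers g ⊓ zpowers k).1
    rw [hLm, card_bot, mul_one, hL, card_sup_of_disjoint hnk hd, card_cube hg, card_cube hk] at h
    have hsub : (orbC L m).ncard ≤ (orbC N m).ncard :=
      Set.ncard_le_ncard (Set.image_mono hLN) (Set.toFinite _)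
    rw [hL] at hsub
    omega
  have hNd := Subgroup.card_subgroup_dvd_card N
  rw [F.card, ← horb t htQ, ← hO] at hNd
  have h21 : O = 21 := by
    have hle := Nat.le_of_dvd (by norm_num) h63
    interval_cases O <;> omega
  exact no_seven F N (by rw [← horb t htQ, ← hO, h21])

end NoIndex

end Cfsg.Agent.Order443520.Loc

namespace Cfsg.Agent.Order443520

variable {G : Type*} [Group G] [Finite G]

/-- The group theory of the facts: a subgroup of index 77. -/
theorem exists_index (F : Facts G) : ∃ M : Subgroup G, M.index = 77 :=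
  by_contra fun h => Loc.no_index_false F h

end Cfsg.Agent.Order443520
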