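import Cfsg.Agent.Lib.Order443520.LocalTwo

/-!
# Subgroups of the core in order 443520

The part of the core centralising the four group, subgroups of order 16, and pairs of commuting elements of order 3.
-/

set_option autoImplicit false
set_option maxHeartbeats 400000

namespace Cfsg.Agent.Order443520.Loc

open Subgroup

variable {G : Type*} [Group G] [Finite G]

theorem exists_orderOf_dvd_subgroup (K : Subgroup G) {p : ℕ} (hp : p.Prime) (h : p ∣ Nat.card K) :
    ∃ x ∈ K, orderOf x = p := by
  haveI := Fact.mk hp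
  obtain ⟨x, hx⟩ := exists_prime_orderOf_dvd_card' (G := K) p h
  exact ⟨x, x.2, by rw [Subgroup.orderOf_coe]; exact hx⟩

theorem exists_mem_normalizer {R E : Subgroup G} (hR : IsPGroup 2 R) (hE : E ≤ R) (hne : E ≠ R) :
    ∃ x ∈ R, x ∉ E ∧ x ∈ normalizer (E : Set G) := by
  haveI : Fact (Nat.Prime 2) := ⟨by norm_num⟩
  haveI : Group.IsNilpotent R := hR.isNilpotent
  have hlt : E.subgroupOf R < ⊤ := lt_top_iff_ne_top.2 fun h => hne (le_antisymm hE (subgroupOf_eq_top.1 h))
  obtain ⟨x, hx, hxE⟩ := SetLike.exists_of_lt (normalizerCondition_of_isNilpotent (E.subgroupOf R) hlt)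
  exact ⟨x, x.2, fun h => hxE (mem_subgroupOf.2 h), mem_normalizer_of_conj fun z hz =>
    mem_subgroupOf.1 (conj_mem_of_mem_normalizer hx (x := (⟨z, hE hz⟩ : R)) (mem_subgroupOf.2 hz))⟩

/-- The conjugate of a subgroup. -/
abbrev conjS (h : G) (R : Subgroup G) : Subgroup G := R.map (MulAut.conj h).toMonoidHom

theorem mem_conjS {h x : G} {R : Subgroup G} : x ∈ conjS h R ↔ ∃ r ∈ R, h * r * h⁻¹ = x := Iff.rfl

theorem card_conjS (h : G) (R : Subgroup G) : Nat.card (conjS h R) = Nat.card R :=
  (Nat.card_congr (Subgroup.equivMapOfInjective R _ (MulAut.conj h).injective).toEquiv).symm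

theorem conjS_normalizer {h g : G} {R : Subgroup G} (hc : g * h = h * g) (hn : g ∈ normalizer (R : Set G)) :
    g ∈ normalizer (conjS h R : Set G) := by
  refine mem_normalizer_of_conj fun x hx => ?_
  obtain ⟨r, hr, rfl⟩ := mem_conjS.1 hx
  refine mem_conjS.2 ⟨g * r * g⁻¹, conj_mem_of_mem_normalizer hn hr, ?_⟩
  rw [show h * (g * r * g⁻¹) * h⁻¹ = (h * g) * r * (h * g)⁻¹ by group, ← hc]; group

theorem centralizer_le_normalizer (R : Subgroup G) : centralizer (R : Set G) ≤ normalizer (R : Set G) :=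
  fun c hc => mem_normalizer_of_conj fun x hx => by
    rw [← mem_centralizer_iff.1 hc x hx, mul_inv_cancel_right]; exact hx

section Setting

variable (F : Facts G) {t g : G} (ht : orderOf t = 2) (hg : orderOf g = 3) (hgt : g ∈ cent t)

include F hg

theorem four_le_of_two {t a : G} (ht : t ∈ fourG g) (ha : a ∈ fourG g) (ht1 : t ≠ 1) (ha1 : a ≠ 1) (hat : a ≠ t)
    {K : Subgroup G} (htK : t ∈ K) (haK : a ∈ K) : fourG g ≤ K := by
  have h3 : 3 ≤ Nat.card ↥(fourG g ⊓ K) := by
    have hs : ({1, t, a} : Set G) ⊆ (fourG g ⊓ K : Subgroup G) := by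
      rintro x (rfl | rfl | rfl)
      · exact one_mem _
      · exact mem_inf.2 ⟨ht, htK⟩
      · exact mem_inf.2 ⟨ha, haK⟩
    have := Set.ncard_le_ncard hs (Set.toFinite _)
    rw [Set.ncard_insert_of_notMem (by simp [ht1.symm, ha1.symm]), Set.ncard_pair hat.symm,
      ← Nat.card_coe_set_eq] at this
    simp only [SetLike.coe_sort_coe] at this
    exact this
  have heq : fourG g ⊓ K = fourG g := eq_of_le_of_card_ge inf_le_left (by
    have hd := Subgroup.card_dvd_of_le (inf_le_left : fourG g ⊓ K ≤ fourG g)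
    rw [four_card F hg] at hd ⊢
    have hle := Nat.le_of_dvd (by norm_num) hd
    interval_cases hc : Nat.card ↥(fourG g ⊓ K)
    · norm_num at hd
    · exact le_rfl)
  exact inf_eq_left.1 heq

include ht hgt

theorem t_mem_four : t ∈ fourG g :=
  mem_four_of_invol F hg (mem_cent_iff.2 (mem_cent_iff.1 hgt).symm) ht

theorem exists_other : ∃ a ∈ fourG g, a ≠ 1 ∧ a ≠ t := by
  by_contra h
  push_neg at h
  have hs : (fourG g : Set G) ⊆ {1, t} := fun x hx => by
    rcases eq_or_ne x 1 with rfl | hx1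
    · exact Or.inl rfl
    · exact Or.inr (h x hx hx1)
  have h2 := (Set.ncard_le_ncard hs (Set.toFinite _)).trans (Set.ncard_insert_le 1 {t})
  rw [← Nat.card_coe_set_eq, Set.ncard_singleton] at h2
  simp only [SetLike.coe_sort_coe] at h2
  rw [four_card F hg] at h2
  omega

theorem g_norm_four : g ∈ normalizer (fourG g : Set G) := four_norm F hg (mem_cent_iff.2 rfl)

theorem exists_pow_of_le_core {R : Subgroup G} (hR : R ≤ core t) :
    ∃ k, k ≤ 6 ∧ Nat.card R = 2 ^ k := by
  have h := Subgroup.card_dvd_of_le hR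
  rw [core_card F ht hg hgt, show (64 : ℕ) = 2 ^ 6 by norm_num] at h
  exact (Nat.dvd_prime_pow Nat.prime_two).1 h

/-- A `g`-invariant subgroup of the core containing the four group. -/
theorem card_mod_three {R : Subgroup G} (hR : R ≤ core t) (hV : fourG g ≤ R)
    (hn : g ∈ normalizer (R : Set G)) : Nat.card R % 3 = 1 := by
  haveI : Fact (Nat.Prime 3) := ⟨by norm_num⟩
  have h := ncard_modEq_fixed (p := 3) (L := zpowers g) (IsPGroup.of_card (n := 1) (by rw [card_cube hg, pow_one]))
    (R : Set G) (fun l hl x hx => conj_mem_of_mem_normalizer ((zpowers_le.2 hn) hl) hx)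
  have e : {x ∈ (R : Set G) | ∀ l ∈ zpowers g, l * x = x * l} = (fourG g : Set G) := by
    ext x
    constructor
    · rintro ⟨hx, hc⟩
      exact core_inf_cent F ht hg hgt hg (mem_inf.2 ⟨hR hx, mem_cent_iff.2 (hc g (mem_zpowers g)).symm⟩)
    · intro hx
      refine ⟨hV hx, fun l hl => ?_⟩
      obtain ⟨i, rfl⟩ := mem_zpowers_iff.1 hl
      exact Commute.zpow_left (mem_cent_iff.1 (four_le F hg hx) : Commute x g).symm i
  rw [e, ← Nat.card_coe_set_eq, ← Nat.card_coe_set_eq] at h
  simp only [SetLike.coe_sort_coe] at h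
  rw [h, four_card F hg]

theorem g_norm_core : g ∈ normalizer (core t : Set G) := cent_le_normalizer_core t hgt

/-- A `g`-invariant subgroup of order 16 containing the four group is normalised by the core. -/
theorem grow {E : Subgroup G} (hE : E ≤ core t) (hV : fourG g ≤ E) (hc : Nat.card E = 16)
    (hn : g ∈ normalizer (E : Set G)) : core t ≤ normalizer (E : Set G) := by
  set N := core t ⊓ normalizer (E : Set G) with hN
  have hEN : E ≤ N := le_inf hE le_normalizer
  have hgN : g ∈ normalizer (N : Set G) := mem_normalizer_of_conj fun x hx => by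
    obtain ⟨h1, h2⟩ := mem_inf.1 hx
    exact mem_inf.2 ⟨conj_mem_of_mem_normalizer (g_norm_core F ht hg hgt) h1,
      mul_mem (mul_mem hn h2) (inv_mem hn)⟩
  have hmod := card_mod_three F ht hg hgt (inf_le_left : N ≤ core t) (hV.trans hEN) hgN
  obtain ⟨k, hk, e⟩ := exists_pow_of_le_core F ht hg hgt (inf_le_left : N ≤ core t)
  have h16 : Nat.card E < Nat.card N := by
    refine lt_of_le_of_ne (Subgroup.card_le_of_le hEN) fun h => ?_
    obtain ⟨x, hx, hxE, hxn⟩ := exists_mem_normalizer (core_isPGroup F ht hg hgt) hE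
      (fun h' => by rw [h', core_card F ht hg hgt] at hc; norm_num at hc)
    exact hxE ((eq_of_le_of_card_ge hEN h.ge).symm ▸ mem_inf.2 ⟨hx, hxn⟩)
  rw [hc] at h16
  have hk' : N = core t := eq_of_le_of_card_ge inf_le_left (by
    rw [core_card F ht hg hgt, e]
    rw [e] at h16 hmod
    interval_cases k <;> simp_all)
  exact inf_eq_left.1 hk'

theorem g_norm_part : g ∈ normalizer ((core t ⊓ centralizer (fourG g : Set G) : Subgroup G) : Set G) :=
  mem_normalizer_of_conj fun x hx => by
    obtain ⟨h1, h2⟩ := mem_inf.1 hx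
    refine mem_inf.2 ⟨conj_mem_of_mem_normalizer (g_norm_core F ht hg hgt) h1, mem_centralizer_iff.2 fun y hy => ?_⟩
    have hyg : g * y * g⁻¹ = y := by rw [← mem_cent_iff.1 (four_le F hg hy), mul_inv_cancel_right]
    calc y * (g * x * g⁻¹) = g * y * g⁻¹ * (g * x * g⁻¹) := by rw [hyg]
      _ = g * (y * x) * g⁻¹ := by group
      _ = g * (x * y) * g⁻¹ := by rw [mem_centralizer_iff.1 h2 y hy]
      _ = g * x * g⁻¹ * (g * y * g⁻¹) := by group
      _ = g * x * g⁻¹ * y := by rw [hyg]

/-- Normalising the four group in the core is centralising it. -/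
theorem normalizer_part :
    core t ⊓ normalizer (fourG g : Set G) ≤ centralizer (fourG g : Set G) := by
  obtain ⟨a, ha, ha1, hat⟩ := exists_other F ht hg hgt
  have ht4 := t_mem_four F ht hg hgt
  have ht1 := ne_one_of_orderOf (by norm_num) ht
  set N := core t ⊓ normalizer (fourG g : Set G) with hN
  set P := core t ⊓ centralizer (fourG g : Set G) with hP
  have hVP : fourG g ≤ P := le_inf (four_le_core F ht hg hgt)
    fun x hx => mem_centralizer_iff.2 fun y hy => four_comm F hg hy hx
  have hPN : P ≤ N := inf_le_inf_left _ (centralizer_le_normalizer _)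
  have hgV := g_norm_four F ht hg hgt
  have hgC : ∀ y ∈ fourG g, g * y = y * g := fun y hy => (mem_cent_iff.1 (four_le F hg hy)).symm
  have hgN : g ∈ normalizer (N : Set G) := mem_normalizer_of_conj fun x hx => by
    obtain ⟨h1, h2⟩ := mem_inf.1 hx
    exact mem_inf.2 ⟨conj_mem_of_mem_normalizer (g_norm_core F ht hg hgt) h1,
      mul_mem (mul_mem hgV h2) (inv_mem hgV)⟩
  have hgP : g ∈ normalizer (P : Set G) := g_norm_part F ht hg hgt
  have hstab : N ⊓ cent a = P := by
    refine le_antisymm (fun x hx => ?_) (le_inf hPN fun x hx => mem_cent_iff.2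
      ((mem_centralizer_iff.1 (mem_inf.1 hx).2 a ha).symm))
    obtain ⟨hxN, hxa⟩ := mem_inf.1 hx
    refine mem_inf.2 ⟨(mem_inf.1 hxN).1, mem_centralizer_iff.2 fun y hy => ?_⟩
    have hxt : x ∈ cent t := core_le t (mem_inf.1 hxN).1
    have hle : fourG g ≤ cent x := four_le_of_two F hg ht4 ha ht1 ha1 hat
      (mem_cent_iff.2 (mem_cent_iff.1 hxt).symm) (mem_cent_iff.2 (mem_cent_iff.1 hxa).symm)
    exact mem_cent_iff.1 (hle hy)
  have hsub : orbC N a ⊆ (fourG g : Set G) \ {1, t} := by
    rintro _ ⟨n, hn, rfl⟩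
    obtain ⟨hn1, hn2⟩ := mem_inf.1 hn
    refine ⟨conj_mem_of_mem_normalizer hn2 ha, ?_⟩
    simp only [Set.mem_insert_iff, Set.mem_singleton_iff, conj_eq_one_iff, not_or]
    refine ⟨ha1, fun e => hat ?_⟩
    have hnt : n * t * n⁻¹ = t := mem_cent_iff'.1 (core_le t hn1)
    exact mul_left_cancel (mul_right_cancel (e.trans hnt.symm))
  have hle : (orbC N a).ncard ≤ 2 := by
    refine (Set.ncard_le_ncard hsub (Set.toFinite _)).trans ?_
    rw [Set.ncard_sdiff (by rintro x (rfl | rfl); exacts [one_mem _, ht4]), Set.ncard_pair ht1.symm,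
      ← Nat.card_coe_set_eq]
    simp only [SetLike.coe_sort_coe]
    rw [four_card F hg]
  have hcard := card_orbC N a
  rw [hstab] at hcard
  have h1 := card_mod_three F ht hg hgt (inf_le_left : P ≤ core t) hVP hgP
  have h2 := card_mod_three F ht hg hgt (inf_le_left : N ≤ core t) (hVP.trans hPN) hgN
  have h0 : 0 < (orbC N a).ncard := (Set.ncard_pos).2 ⟨a, self_mem_orbC N a⟩
  rw [← hcard, Nat.mul_mod, h1] at h2
  interval_cases hj : (orbC N a).ncard
  · rw [one_mul] at hcard
    exact (eq_of_le_of_card_ge hPN hcard.ge) ▸ inf_le_right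
  · norm_num at h2

/-- The part centralising the four group has order 16 or is all of the core. -/
theorem part_card : Nat.card ↥(core t ⊓ centralizer (fourG g : Set G)) = 16 ∨
    core t ≤ centralizer (fourG g : Set G) := by
  set P := core t ⊓ centralizer (fourG g : Set G) with hP
  have hVP : fourG g ≤ P := le_inf (four_le_core F ht hg hgt)
    fun x hx => mem_centralizer_iff.2 fun y hy => four_comm F hg hy hx
  have h1 := card_mod_three F ht hg hgt (inf_le_left : P ≤ core t) hVP (g_norm_part F ht hg hgt)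
  obtain ⟨k, hk, e⟩ := exists_pow_of_le_core F ht hg hgt (inf_le_left : P ≤ core t)
  have h4 : 4 < Nat.card P := by
    obtain ⟨x, hx, hxV, hxn⟩ := exists_mem_normalizer (core_isPGroup F ht hg hgt)
      (four_le_core F ht hg hgt) (fun h' => by
        have := four_card F hg
        rw [h', core_card F ht hg hgt] at this
        norm_num at this)
    have hlt : fourG g < P := lt_of_le_of_ne hVP fun h => hxV
      (h.symm ▸ mem_inf.2 ⟨hx, normalizer_part F ht hg hgt (mem_inf.2 ⟨hx, hxn⟩)⟩)
    rw [← four_card F hg]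
    exact lt_of_le_of_ne (Subgroup.card_le_of_le hVP) fun h => hlt.ne (eq_of_le_of_card_ge hVP h.ge)
  rw [e] at h1 h4 ⊢
  interval_cases k
  all_goals first | (norm_num at h1; done) | (norm_num at h4; done) | exact Or.inl (show (2 : ℕ) ^ 4 = 16 from rfl) | skip
  refine Or.inr ?_
  have hfull : P = core t := eq_of_le_of_card_ge inf_le_left (by rw [core_card F ht hg hgt, e]; norm_num)
  exact inf_eq_left.1 hfull

/-- Every element of `C(g)` normalises a subgroup of the core cut out by the four group. -/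
theorem cent_norm_part {h : G} (hh : h ∈ cent g) :
    h ∈ normalizer ((core t ⊓ centralizer (fourG g : Set G) : Subgroup G) : Set G) := by
  set P := core t ⊓ centralizer (fourG g : Set G) with hP
  have hcent : conjS h P ≤ centralizer (fourG g : Set G) := by
    intro x hx
    obtain ⟨r, hr, rfl⟩ := mem_conjS.1 hx
    refine mem_centralizer_iff.2 fun y hy => ?_
    have hy' : h⁻¹ * y * h⁻¹⁻¹ ∈ fourG g := conj_mem_of_mem_normalizer (inv_mem (four_norm F hg hh)) hy
    have := congrArg (fun z => h * z * h⁻¹) (mem_centralizer_iff.1 (mem_inf.1 hr).2 _ hy')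
    calc y * (h * r * h⁻¹) = h * (h⁻¹ * y * h⁻¹⁻¹ * r) * h⁻¹ := by group
      _ = h * (r * (h⁻¹ * y * h⁻¹⁻¹)) * h⁻¹ := this
      _ = h * r * h⁻¹ * y := by group
  refine mem_normalizer_of_conj fun x hx => ?_
  have hx' : h * x * h⁻¹ ∈ conjS h P := mem_conjS.2 ⟨x, hx, rfl⟩
  refine mem_inf.2 ⟨le_core F ht hg hgt (conjS h P) (((core_isPGroup F ht hg hgt).to_le inf_le_left).map _)
    (fun y hy => mem_cent_iff.2 (mem_centralizer_iff.1 (hcent hy) t (t_mem_four F ht hg hgt)).symm)
    (conjS_normalizer (mem_cent_iff.1 hh).symm (g_norm_part F ht hg hgt)) hx', hcent hx'⟩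

end Setting

/-- No involution commutes with two independent commuting elements of order 3. -/
theorem pair_trivial (F : Facts G) {g k : G} (hg : orderOf g = 3) (hk : orderOf k = 3) (hc : g * k = k * g)
    (hkg : k ∉ zpowers g) {x : G} (hx : x * x = 1) (hgx : g * x = x * g) (hkx : k * x = x * k) : x = 1 := by
  by_contra hx1
  have hd : zpowers g ⊓ zpowers k = ⊥ := by
    refine Subgroup.eq_bot_of_card_eq _ ?_
    have h := Subgroup.card_dvd_of_le (inf_le_left : zpowers g ⊓ zpowers k ≤ zpowers g)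
    rw [card_cube hg] at h
    refine ((Nat.dvd_prime (by norm_num)).1 h).resolve_right fun h3 => hkg ?_
    have e1 := eq_of_le_of_card_ge (inf_le_right : zpowers g ⊓ zpowers k ≤ zpowers k) (by rw [card_cube hk, h3])
    exact (e1.symm ▸ mem_zpowers k : k ∈ zpowers g ⊓ zpowers k).1
  have hn : zpowers g ≤ normalizer (zpowers k : Set G) := zpowers_le.2 (mem_normalizer_of_conj fun y hy => by
    obtain ⟨i, rfl⟩ := mem_zpowers_iff.1 hy
    rw [(Commute.zpow_right hc i : Commute g (k ^ i)).eq, mul_inv_cancel_right]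
    exact hy)
  refine not_nine F (orderOf_two hx hx1) (zpowers g ⊔ zpowers k)
    (by rw [card_sup_of_disjoint hn hd, card_cube hg, card_cube hk]) fun l hl => ?_
  have hle : zpowers g ⊔ zpowers k ≤ cent x :=
    sup_le (zpowers_le.2 (mem_cent_iff.2 hgx)) (zpowers_le.2 (mem_cent_iff.2 hkx))
  exact mem_cent_iff.1 (hle hl)

end Cfsg.Agent.Order443520.Loc
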