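import Cfsg.Agent.Lib.Order443520.LocalBase

/-!
# Two orders which no subgroup of a group of order 443520 has
-/

set_option autoImplicit false
set_option maxHeartbeats 400000

namespace Cfsg.Agent.Order443520.Loc

open Subgroup

variable {G : Type*} [Group G] [Finite G]

/-- The normaliser of a Sylow subgroup of `N` of prime order, seen in `G`. -/
theorem sylow_normalizer_dvd {p : ℕ} [hp : Fact p.Prime] (N : Subgroup G) (P : Sylow p N)
    (hP : Nat.card (P : Subgroup N) = p) {d : ℕ}
    (hd : ∀ y : G, orderOf y = p → Nat.card (normalizer (zpowers y : Set G)) = d) :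
    Nat.card (normalizer ((P : Subgroup N) : Set N)) ∣ d ∧
      p ∣ Nat.card (normalizer ((P : Subgroup N) : Set N)) := by
  obtain ⟨y, hy, hyo⟩ := exists_orderOf_dvd_subgroup (P : Subgroup N) hp.out (dvd_of_eq hP.symm)
  have hzy : zpowers y = (P : Subgroup N) :=
    eq_of_le_of_card_ge (zpowers_le.2 hy) (by rw [Nat.card_zpowers, hyo, hP])
  refine ⟨?_, ?_⟩
  · rw [← hd y (by rw [Subgroup.orderOf_coe]; exact hyo), ← card_map_subtype N]
    refine Subgroup.card_dvd_of_le ?_
    rintro _ ⟨x, hx, rfl⟩
    refine mem_normalizer_of_conj fun z hz => ?_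
    obtain ⟨i, rfl⟩ := mem_zpowers_iff.1 hz
    have hm : x * y ^ i * x⁻¹ ∈ zpowers y := by
      rw [hzy] at *
      exact conj_mem_of_mem_normalizer hx (zpow_mem hy i)
    obtain ⟨j, hj⟩ := mem_zpowers_iff.1 hm
    refine mem_zpowers_iff.2 ⟨j, ?_⟩
    exact congrArg Subtype.val hj
  · exact (dvd_of_eq hP.symm).trans (Subgroup.card_dvd_of_le le_normalizer)

theorem no_seven (F : Facts G) (N : Subgroup G) (hN : Nat.card N = 8064) : False := by
  haveI : Fact (Nat.Prime 7) := ⟨by norm_num⟩
  obtain ⟨P⟩ : Nonempty (Sylow 7 N) := inferInstance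
  have hP : Nat.card (P : Subgroup N) = 7 :=
    card_sylow_eq (a := 1) (b := 1152) (hN.trans (by norm_num)) (by norm_num) P
  obtain ⟨h1, h2⟩ := sylow_normalizer_dvd N P hP fun y hy => (F.seven y hy).2
  have hm := card_sylow_modEq_one 7 N
  rw [← sylow_index P] at hm
  have hmul := Subgroup.card_mul_index (normalizer ((P : Subgroup N) : Set N))
  rw [hN] at hmul
  have hm' : (normalizer ((P : Subgroup N) : Set N)).index % 7 = 1 := hm
  have hle := Nat.le_of_dvd (by norm_num) h1
  interval_cases hc : Nat.card (normalizer ((P : Subgroup N) : Set N)) <;> omega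

theorem no_five (F : Facts G) (N : Subgroup G) (hN : Nat.card N = 2880) : False := by
  haveI : Fact (Nat.Prime 5) := ⟨by norm_num⟩
  haveI : Fact (Nat.Prime 3) := ⟨by norm_num⟩
  obtain ⟨P⟩ : Nonempty (Sylow 5 N) := inferInstance
  have hP : Nat.card (P : Subgroup N) = 5 :=
    card_sylow_eq (a := 1) (b := 576) (hN.trans (by norm_num)) (by norm_num) P
  obtain ⟨h1, h2⟩ := sylow_normalizer_dvd N P hP fun y hy => (F.five y hy).2
  have hm := card_sylow_modEq_one 5 N
  rw [← sylow_index P] at hm
  have hmul := Subgroup.card_mul_index (normalizer ((P : Subgroup N) : Set N))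
  rw [hN] at hmul
  have hm' : (normalizer ((P : Subgroup N) : Set N)).index % 5 = 1 := hm
  have h5 : Nat.card (normalizer ((P : Subgroup N) : Set N)) = 5 := by
    have hle := Nat.le_of_dvd (by norm_num) h1
    interval_cases hc : Nat.card (normalizer ((P : Subgroup N) : Set N)) <;> omega
  have hnorm : normalizer ((P : Subgroup N) : Set N) = (P : Subgroup N) :=
    (eq_of_le_of_card_ge le_normalizer (by rw [h5, hP])).symm
  have hcomm : normalizer ((P : Subgroup N) : Set N) ≤ centralizer ((P : Subgroup N) : Set N) := by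
    haveI := isCyclic_of_prime_card hP
    rw [hnorm]
    intro a ha
    rw [mem_centralizer_iff]
    intro b hb
    exact congrArg Subtype.val (mul_comm' (⟨b, hb⟩ : (P : Subgroup N)) ⟨a, ha⟩)
  set K := (MonoidHom.transferSylow P hcomm).ker with hK
  haveI : K.Normal := MonoidHom.normal_ker _
  have hKc : Nat.card K = 576 := by
    have h := (MonoidHom.ker_transferSylow_isComplement' P hcomm).card_mul_card
    rw [hP, hN, ← hK] at h
    omega
  have hKi : K.index = 5 := by
    have h := Subgroup.card_mul_index K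
    rw [hKc, hN] at h
    omega
  obtain ⟨R⟩ : Nonempty (Sylow 3 K) := inferInstance
  have hR : Nat.card (R : Subgroup K) = 9 :=
    card_sylow_eq (a := 2) (b := 64) (hKc.trans (by norm_num)) (by norm_num) R
  set RN := (R : Subgroup K).map K.subtype with hRN
  set NR := normalizer (RN : Set N) with hNR
  have hsup : NR ⊔ K = ⊤ := Sylow.normalizer_sup_eq_top R
  have hdvd : 5 ∣ Nat.card NR := by
    have hmap : NR.map (QuotientGroup.mk' K) = ⊤ := by
      rw [← Subgroup.map_top_of_surjective _ (QuotientGroup.mk'_surjective K), ← hsup, Subgroup.map_sup,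
        QuotientGroup.map_mk'_self, sup_bot_eq]
    have h := Subgroup.card_map_dvd (H := NR) (QuotientGroup.mk' K)
    rwa [hmap, Subgroup.card_top, ← Subgroup.index_eq_card, hKi] at h
  obtain ⟨z, hz, hzo⟩ := exists_orderOf_dvd_subgroup NR (by norm_num) hdvd
  set L : Subgroup G := RN.map N.subtype with hL
  have hLc : Nat.card L = 9 := by rw [hL, card_map_subtype, hRN, card_map_subtype, hR]
  have hzG : orderOf (z : G) = 5 := by rw [Subgroup.orderOf_coe]; exact hzo
  have hd : Nat.card (zpowers (z : G)) ∣ ((L : Set G) \ {1}).ncard := by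
    refine dvd_ncard_of_free _ _ ?_ ?_
    · intro l hl x hx
      obtain ⟨i, rfl⟩ := mem_zpowers_iff.1 hl
      obtain ⟨r, hr, rfl⟩ := hx.1
      refine ⟨⟨z ^ i * r * (z ^ i)⁻¹, conj_mem_of_mem_normalizer (zpow_mem hz i) hr, by simp⟩, ?_⟩
      simpa using hx.2
    · intro l hl x hx hc
      by_contra hl1
      have hlo : orderOf l = 5 := by
        have h := Subgroup.card_dvd_of_le (zpowers_le.2 hl)
        rw [Nat.card_zpowers, Nat.card_zpowers, hzG] at h
        exact ((Nat.dvd_prime (by norm_num)).1 h).resolve_left fun h' => hl1 (orderOf_eq_one_iff.1 h')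
      have hxc := orderOf_dvd_natCard (⟨x, mem_cent_iff.2 hc.symm⟩ : cent l)
      have hxL := orderOf_dvd_natCard (⟨x, hx.1⟩ : L)
      rw [Subgroup.orderOf_mk, (F.five l hlo).1] at hxc
      rw [Subgroup.orderOf_mk, hLc] at hxL
      have h1 := Nat.dvd_gcd hxc hxL
      norm_num at h1
      exact hx.2 h1
  rw [Nat.card_zpowers, hzG, Set.ncard_sdiff (by simp), Set.ncard_singleton, ← Nat.card_coe_set_eq] at hd
  simp only [SetLike.coe_sort_coe] at hd
  rw [hLc] at hd
  norm_num at hd

end Cfsg.Agent.Order443520.Loc
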