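import Mathlib

/-!
# Counting tools for the local analysis in order 443520

Conjugacy orbits of a subgroup on a set of elements, and the orders of products of two subgroups.
-/

set_option autoImplicit false

namespace Cfsg.Agent.Order443520.Loc

open Subgroup

variable {G : Type*} [Group G]

/-- The conjugates of `x` by the elements of `L`. -/
def orbC (L : Subgroup G) (x : G) : Set G := (fun l => l * x * l⁻¹) '' (L : Set G)

theorem mem_orbC {L : Subgroup G} {x y : G} : y ∈ orbC L x ↔ ∃ l ∈ L, l * x * l⁻¹ = y := Iff.rfl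

theorem self_mem_orbC (L : Subgroup G) (x : G) : x ∈ orbC L x := ⟨1, L.one_mem, by simp⟩

theorem conj_mem_orbC {L : Subgroup G} {x y l : G} (hl : l ∈ L) (hy : y ∈ orbC L x) :
    l * y * l⁻¹ ∈ orbC L x := by
  obtain ⟨m, hm, rfl⟩ := hy
  exact ⟨l * m, L.mul_mem hl hm, by group⟩

theorem orbC_subset {L : Subgroup G} {A : Set G} (hinv : ∀ l ∈ L, ∀ x ∈ A, l * x * l⁻¹ ∈ A) {x : G}
    (hx : x ∈ A) : orbC L x ⊆ A := by
  rintro _ ⟨l, hl, rfl⟩
  exact hinv l hl x hx

theorem mem_cent_iff {x l : G} : l ∈ centralizer ({x} : Set G) ↔ l * x = x * l := by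
  rw [mem_centralizer_singleton_iff]

theorem mem_cent_iff' {x l : G} : l ∈ centralizer ({x} : Set G) ↔ l * x * l⁻¹ = x := by
  rw [mem_cent_iff, mul_inv_eq_iff_eq_mul]

/-- An orbit has the index of the stabiliser as its size. -/
theorem card_orbC [Finite G] (L : Subgroup G) (x : G) :
    (orbC L x).ncard * Nat.card ↥(L ⊓ centralizer ({x} : Set G)) = Nat.card L := by
  classical
  have key : ∀ a b : L, (a : G) * x * (a : G)⁻¹ = b * x * (b : G)⁻¹ ↔
      a⁻¹ * b ∈ (centralizer ({x} : Set G)).subgroupOf L := by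
    intro a b
    rw [Subgroup.mem_subgroupOf, mem_cent_iff', Subgroup.coe_mul, Subgroup.coe_inv]
    constructor
    · intro h
      calc (a : G)⁻¹ * b * x * ((a : G)⁻¹ * b)⁻¹ = (a : G)⁻¹ * (b * x * (b : G)⁻¹) * a := by group
        _ = x := by rw [← h]; group
    · intro h
      calc (a : G) * x * (a : G)⁻¹ = a * ((a : G)⁻¹ * b * x * ((a : G)⁻¹ * b)⁻¹) * (a : G)⁻¹ := by rw [h]
        _ = b * x * (b : G)⁻¹ := by group
  let S := (centralizer ({x} : Set G)).subgroupOf L
  let f : L ⧸ S → orbC L x := Quotient.lift (fun l : L => (⟨(l : G) * x * (l : G)⁻¹, l, l.2, rfl⟩ : orbC L x))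
    (fun a b h => Subtype.ext ((key a b).2 (QuotientGroup.leftRel_apply.1 h)))
  have hf : Function.Bijective f := by
    refine ⟨?_, ?_⟩
    · intro a' b'
      refine Quotient.inductionOn₂ a' b' fun a b h => Quotient.sound ?_
      exact QuotientGroup.leftRel_apply.2 ((key a b).1 (congrArg Subtype.val h))
    · rintro ⟨_, l, hl, rfl⟩
      exact ⟨QuotientGroup.mk ⟨l, hl⟩, rfl⟩
  have h1 : (orbC L x).ncard = S.index := by
    rw [← Nat.card_coe_set_eq, ← Nat.card_congr (Equiv.ofBijective f hf)]; rfl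
  have h2 : Nat.card ↥(L ⊓ centralizer ({x} : Set G)) = Nat.card S := by
    rw [← (Nat.card_congr (Subgroup.subgroupOfEquivOfLe
      (inf_le_left : L ⊓ centralizer ({x} : Set G) ≤ L)).toEquiv), Subgroup.inf_subgroupOf_left]
  rw [h1, h2, Subgroup.index_mul_card]

/-- A set made of orbits of one size has that size as divisor. -/
theorem dvd_ncard_of_orbits [Finite G] (L : Subgroup G) (A : Set G) (O : ℕ)
    (hinv : ∀ l ∈ L, ∀ x ∈ A, l * x * l⁻¹ ∈ A) (hO : ∀ x ∈ A, (orbC L x).ncard = O) : O ∣ A.ncard := by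
  induction h : A.ncard using Nat.strong_induction_on generalizing A with
  | h n ih =>
    rcases A.eq_empty_or_nonempty with rfl | ⟨x, hx⟩
    · simp at h; subst h; exact dvd_zero O
    · have hsub := orbC_subset hinv hx
      have hsplit : (A \ orbC L x).ncard + O = n := by
        rw [← h, ← hO x hx]
        exact Set.ncard_sdiff_add_ncard_of_subset hsub (Set.toFinite _)
      have hpos : 0 < O := hO x hx ▸ (Set.ncard_pos (Set.toFinite _)).2 ⟨x, self_mem_orbC L x⟩
      have hd := ih (A \ orbC L x).ncard (by omega) (A \ orbC L x) ?_ (fun y hy => hO y hy.1) rfl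
      · rw [← hsplit]; exact dvd_add hd (dvd_refl O)
      · intro l hl y hy
        refine ⟨hinv l hl y hy.1, fun hc => hy.2 ?_⟩
        have := conj_mem_orbC (L.inv_mem hl) hc
        simpa [mul_assoc] using this

/-- A freely acting subgroup divides the size of the set. -/
theorem dvd_ncard_of_free [Finite G] (L : Subgroup G) (A : Set G)
    (hinv : ∀ l ∈ L, ∀ x ∈ A, l * x * l⁻¹ ∈ A) (hfree : ∀ l ∈ L, ∀ x ∈ A, l * x = x * l → l = 1) :
    Nat.card L ∣ A.ncard := by
  refine dvd_ncard_of_orbits L A _ hinv fun x hx => ?_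
  have h := card_orbC L x
  have hb : L ⊓ centralizer ({x} : Set G) = ⊥ :=
    eq_bot_iff.2 fun l hl => mem_bot.2 (hfree l (mem_inf.1 hl).1 x hx (mem_cent_iff.1 (mem_inf.1 hl).2))
  rwa [hb, card_bot, mul_one] at h

/-- A `p`-group leaves invariant as many elements, modulo `p`, as the set has. -/
theorem ncard_modEq_fixed [Finite G] {p : ℕ} [Fact p.Prime] {L : Subgroup G} (hL : IsPGroup p L) (A : Set G)
    (hinv : ∀ l ∈ L, ∀ x ∈ A, l * x * l⁻¹ ∈ A) :
    A.ncard % p = {x ∈ A | ∀ l ∈ L, l * x = x * l}.ncard % p := by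
  letI : MulAction L A :=
    { smul := fun l x => ⟨(l : G) * x * (l : G)⁻¹, hinv l l.2 x x.2⟩
      one_smul := fun x => Subtype.ext (by show (1 : G) * x * (1 : G)⁻¹ = x; simp)
      mul_smul := fun a b x => Subtype.ext (by
        show (a * b : G) * x * (a * b : G)⁻¹ = a * (b * x * (b : G)⁻¹) * (a : G)⁻¹
        group) }
  have h := hL.card_modEq_card_fixedPoints A
  rw [Nat.card_coe_set_eq] at h
  rw [h, ← Nat.card_coe_set_eq {x ∈ A | ∀ l ∈ L, l * x = x * l}]
  congr 1
  refine Nat.card_congr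
    { toFun := fun x => ⟨x.1.1, x.1.2, fun l hl => mul_inv_eq_iff_eq_mul.1 (congrArg Subtype.val (x.2 ⟨l, hl⟩))⟩
      invFun := fun x => ⟨⟨x.1, x.2.1⟩, fun l => Subtype.ext (mul_inv_eq_iff_eq_mul.2 (x.2.2 l l.2))⟩
      left_inv := fun _ => rfl
      right_inv := fun _ => rfl }

/-- `|A| |B| ≤ |A ⊓ B| |M|` inside a subgroup `M`. -/
theorem card_mul_le [Finite G] {A B M : Subgroup G} (hA : A ≤ M) (hB : B ≤ M) :
    Nat.card A * Nat.card B ≤ Nat.card ↥(A ⊓ B) * Nat.card M := by
  classical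
  let f : A × B → M := fun x => ⟨(x.1 : G) * x.2, M.mul_mem (hA x.1.2) (hB x.2.2)⟩
  let r : A × B → A × B := fun x => Function.invFun f (f x)
  have hr : ∀ x, f (r x) = f x := fun x => Function.invFun_eq ⟨x, rfl⟩
  have hmem : ∀ x, ((r x).1 : G)⁻¹ * x.1 ∈ A ⊓ B := by
    intro x
    refine mem_inf.2 ⟨A.mul_mem (A.inv_mem (r x).1.2) x.1.2, ?_⟩
    have h : ((r x).1 : G) * (r x).2 = x.1 * x.2 := congrArg Subtype.val (hr x)
    rw [show ((r x).1 : G)⁻¹ * x.1 = (r x).2 * (x.2 : G)⁻¹ by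
      rw [eq_mul_inv_iff_mul_eq, mul_assoc, ← h, inv_mul_cancel_left]]
    exact B.mul_mem (r x).2.2 (B.inv_mem x.2.2)
  have h := Nat.card_le_card_of_injective
    (fun x => ((⟨_, hmem x⟩, f x) : ↥(A ⊓ B) × M)) ?_
  · rwa [Nat.card_prod, Nat.card_prod] at h
  intro x y hxy
  have h1 : ((r x).1 : G)⁻¹ * x.1 = ((r y).1 : G)⁻¹ * y.1 := congrArg (fun z => (z.1 : G)) hxy
  have h2 : f x = f y := congrArg Prod.snd hxy
  have h3 : r x = r y := by simp only [r, h2]
  rw [h3, mul_right_inj] at h1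
  have h4 : (x.1 : G) * x.2 = y.1 * y.2 := congrArg Subtype.val h2
  rw [h1, mul_right_inj] at h4
  exact Prod.ext (Subtype.ext h1) (Subtype.ext h4)

/-- The elements of a join of two subgroups, one normalising the other. -/
theorem mem_sup_normalizing {A B : Subgroup G} (h : A ≤ normalizer (B : Set G)) {x : G} :
    x ∈ A ⊔ B ↔ ∃ a ∈ A, ∃ b ∈ B, a * b = x := by
  rw [← SetLike.mem_coe, coe_mul_of_left_le_normalizer_right _ _ h]
  exact Set.mem_mul

/-- The order of the join of two subgroups with trivial intersection, one normalising the other. -/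
theorem card_sup_of_disjoint [Finite G] {A B : Subgroup G} (h : A ≤ normalizer (B : Set G))
    (hd : A ⊓ B = ⊥) : Nat.card ↥(A ⊔ B) = Nat.card A * Nat.card B := by
  refine le_antisymm ?_ ?_
  · let f : A × B → ↥(A ⊔ B) := fun x =>
      ⟨(x.1 : G) * x.2, mul_mem (mem_sup_left x.1.2) (mem_sup_right x.2.2)⟩
    refine (Nat.card_le_card_of_surjective f ?_).trans (Nat.card_prod A B).le
    rintro ⟨x, hx⟩
    obtain ⟨a, ha, b, hb, rfl⟩ := (mem_sup_normalizing h).1 hx
    exact ⟨(⟨a, ha⟩, ⟨b, hb⟩), rfl⟩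
  · have := card_mul_le (A := A) (B := B) (M := A ⊔ B) le_sup_left le_sup_right
    rwa [hd, card_bot, one_mul] at this

/-- An element conjugating a finite subgroup into itself normalises it. -/
theorem mem_normalizer_of_conj [Finite G] {H : Subgroup G} {g : G} (h : ∀ x ∈ H, g * x * g⁻¹ ∈ H) :
    g ∈ normalizer (H : Set G) := by
  rw [mem_normalizer_iff]
  refine fun x => ⟨h x, fun hx => ?_⟩
  let f : H → H := fun y => ⟨g * y * g⁻¹, h y y.2⟩
  have hf : Function.Surjective f :=
    Finite.injective_iff_surjective.1 fun a b hab => Subtype.ext (by simpa [f] using hab)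
  obtain ⟨y, hy⟩ := hf ⟨_, hx⟩
  have : (y : G) = x := by simpa [f] using congrArg Subtype.val hy
  exact this ▸ y.2

theorem conj_mem_of_mem_normalizer {H : Subgroup G} {g x : G} (hg : g ∈ normalizer (H : Set G))
    (hx : x ∈ H) : g * x * g⁻¹ ∈ H := (mem_normalizer_iff.1 hg x).1 hx

end Cfsg.Agent.Order443520.Loc
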