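import Cfsg.Agent.Lib.Order443520.Facts
import Cfsg.Agent.Lib.Order443520.LocalTools

/-!
# Centralisers of elements of order 2 and 3 in order 443520

`fourG g` is the four group in the centraliser of an element of order 3, `core t` the normal subgroup of order 64
of the centraliser of an involution.
-/

set_option autoImplicit false
set_option maxHeartbeats 400000

namespace Cfsg.Agent.Order443520.Loc

open Subgroup

variable {G : Type*} [Group G] [Finite G]

theorem card_sylow_eq {H : Type*} [Group H] [Finite H] {p a b : ℕ} [hp : Fact p.Prime]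
    (hH : Nat.card H = p ^ a * b) (hb : ¬ p ∣ b) (P : Sylow p H) : Nat.card (P : Subgroup H) = p ^ a := by
  obtain ⟨k, hk⟩ := IsPGroup.iff_card.1 P.isPGroup'
  have hmul : p ^ k * (P : Subgroup H).index = p ^ a * b := by
    rw [← hk, ← hH]; exact Subgroup.card_mul_index _
  rw [hk]
  refine Nat.dvd_antisymm ?_ ?_
  · exact (((hp.out.coprime_iff_not_dvd).2 hb).pow_left k).dvd_of_dvd_mul_right (Dvd.intro _ hmul)
  · exact (((hp.out.coprime_iff_not_dvd).2 P.not_dvd_index).pow_left a).dvd_of_dvd_mul_right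
      (Dvd.intro _ hmul.symm)

/-- The number of Sylow subgroups, with the normaliser of the underlying subgroup. -/
theorem sylow_index {H : Type*} [Group H] [Finite H] {p : ℕ} [Fact p.Prime] (T : Sylow p H) :
    (normalizer ((T : Subgroup H) : Set H)).index = Nat.card (Sylow p H) :=
  (Sylow.card_eq_index_normalizer T).symm

theorem sylow_smul_iff {H : Type*} [Group H] {p : ℕ} {g : H} {T : Sylow p H} :
    g • T = T ↔ g ∈ normalizer ((T : Subgroup H) : Set H) :=
  Sylow.smul_eq_iff_mem_normalizer

theorem card_map_subtype (C : Subgroup G) (R : Subgroup C) : Nat.card (R.map C.subtype) = Nat.card R :=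
  (Nat.card_congr (Subgroup.equivMapOfInjective _ _ C.subtype_injective).toEquiv).symm

theorem card_cube {g : G} (hg : orderOf g = 3) : Nat.card (zpowers g) = 3 := by rw [Nat.card_zpowers, hg]

theorem isPGroup_of_card_two_pow {R : Subgroup G} {k : ℕ} (h : Nat.card R = 2 ^ k) : IsPGroup 2 R :=
  IsPGroup.of_card h

/-- No involution centralises a subgroup of order 9. -/
theorem not_nine (F : Facts G) {t : G} (ht : orderOf t = 2) (L : Subgroup G) (hL : Nat.card L = 9)
    (h : ∀ l ∈ L, l * t = t * l) : False := by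
  have := Subgroup.card_dvd_of_le (show L ≤ cent t from fun l hl => mem_cent_iff.2 (h l hl))
  rw [hL, F.two t ht] at this
  norm_num at this

theorem orderOf_two {x : G} (h : x * x = 1) (h1 : x ≠ 1) : orderOf x = 2 :=
  orderOf_eq_prime (by rw [pow_two]; exact h) h1

theorem sq_of_orderOf {x : G} (h : orderOf x = 2) : x * x = 1 := by
  rw [← pow_two, ← h]; exact pow_orderOf_eq_one x

theorem ne_one_of_orderOf {x : G} {n : ℕ} (hn : n ≠ 1) (h : orderOf x = n) : x ≠ 1 := fun e =>
  hn (by rw [← h, e, orderOf_one])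

/-- The involutions commuting with `g`, closed up. -/
def fourG (g : G) : Subgroup G := closure {x | x ∈ cent g ∧ x * x = 1}

/-- A subgroup of order 4 of `C(g)` does not normalise a subgroup of order 9 containing `g`. -/
theorem no_four_normalising (F : Facts G) {g : G} (hg : orderOf g = 3) (L T : Subgroup G)
    (hL : Nat.card L = 9) (hgL : g ∈ L) (hT : Nat.card T = 4) (hTg : T ≤ cent g)
    (hTn : T ≤ normalizer (L : Set G)) : False := by
  haveI : Fact (Nat.Prime 3) := ⟨by norm_num⟩
  have hA : ((L : Set G) \ (zpowers g : Set G)).ncard = 6 := by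
    rw [Set.ncard_sdiff (fun x hx => zpowers_le.2 hgL hx), ← Nat.card_coe_set_eq, ← Nat.card_coe_set_eq]
    simp only [SetLike.coe_sort_coe]
    rw [hL, card_cube hg]
  have hd : Nat.card T ∣ ((L : Set G) \ (zpowers g : Set G)).ncard := by
    refine dvd_ncard_of_free T _ ?_ ?_
    · intro t ht x hx
      refine ⟨conj_mem_of_mem_normalizer (hTn ht) hx.1, fun hc => hx.2 ?_⟩
      obtain ⟨i, hi⟩ := mem_zpowers_iff.1 hc
      refine mem_zpowers_iff.2 ⟨i, ?_⟩
      have htg : Commute t g := mem_cent_iff.1 (hTg ht)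
      calc g ^ i = t⁻¹ * g ^ i * t := by rw [mul_assoc, ← (htg.zpow_right i).eq, inv_mul_cancel_left]
        _ = x := by rw [hi]; group
    · intro t ht x hx hc
      by_contra hne
      obtain ⟨u, hu, hu2⟩ : ∃ u ∈ zpowers t, orderOf u = 2 := by
        have h4 : orderOf t ∣ 2 ^ 2 := by
          have := orderOf_dvd_natCard (⟨t, ht⟩ : T)
          rw [Subgroup.orderOf_mk, hT] at this
          norm_num
          exact this
        obtain ⟨k, hk, e⟩ := (Nat.dvd_prime_pow Nat.prime_two).1 h4
        interval_cases k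
        · rw [pow_zero, orderOf_eq_one_iff] at e
          exact absurd e hne
        · rw [pow_one] at e
          exact ⟨t, mem_zpowers _, e⟩
        · exact ⟨t ^ 2, pow_mem (mem_zpowers _) 2, by rw [orderOf_pow' _ two_ne_zero, e]; norm_num⟩
      have hsub : ({g, x} : Set G) ⊆ L := by rintro y (rfl | rfl); exacts [hgL, hx.1]
      have hcl : closure ({g, x} : Set G) = L := by
        refine eq_of_le_of_card_ge ((closure_le _).2 hsub) ?_
        have hdvd : Nat.card (closure ({g, x} : Set G)) ∣ 3 ^ 2 := by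
          have := Subgroup.card_dvd_of_le ((closure_le _).2 hsub)
          rw [hL] at this
          norm_num
          exact this
        obtain ⟨k, hk, e⟩ := (Nat.dvd_prime_pow (show Nat.Prime 3 by norm_num)).1 hdvd
        rw [hL, e]
        have hzle : zpowers g ≤ closure ({g, x} : Set G) := zpowers_le.2 (subset_closure (Set.mem_insert g _))
        interval_cases k
        · have := Subgroup.card_dvd_of_le hzle
          rw [e, card_cube hg] at this
          norm_num at this
        · exfalso
          have h' : zpowers g = closure ({g, x} : Set G) :=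
            eq_of_le_of_card_ge hzle (by rw [e, card_cube hg, pow_one])
          exact hx.2 (h'.symm ▸ subset_closure (Set.mem_insert_of_mem g rfl))
        · norm_num
      have hLc : L ≤ cent u := by
        rw [← hcl, closure_le]
        obtain ⟨i, rfl⟩ := mem_zpowers_iff.1 hu
        rintro y (rfl | rfl)
        · exact mem_cent_iff.2 (Commute.zpow_left (mem_cent_iff.1 (hTg ht) : Commute t y) i).symm
        · exact mem_cent_iff.2 (Commute.zpow_left (hc : Commute t y) i).symm
      exact not_nine F hu2 L hL fun l hl => mem_cent_iff.1 (hLc hl)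
  rw [hT, hA] at hd
  norm_num at hd

/-- In `C(g)` a Sylow 3-subgroup is abelian and self-normalising. -/
theorem normalizer_le_centralizer_three (F : Facts G) {g : G} (hg : orderOf g = 3) (S : Sylow 3 (cent g)) :
    Nat.card (S : Subgroup (cent g)) = 9 ∧
      normalizer ((S : Subgroup (cent g)) : Set (cent g)) ≤ centralizer ((S : Subgroup (cent g)) : Set (cent g)) := by
  haveI : Fact (Nat.Prime 3) := ⟨by norm_num⟩
  haveI : Fact (Nat.Prime 2) := ⟨by norm_num⟩
  have hC : Nat.card (cent g) = 3 ^ 2 * 4 := F.three g hg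
  have hS : Nat.card (S : Subgroup (cent g)) = 9 := card_sylow_eq hC (by norm_num) S
  refine ⟨hS, ?_⟩
  let gC : cent g := ⟨g, mem_cent_iff.2 rfl⟩
  have hgS : gC ∈ (S : Subgroup (cent g)) := by
    haveI : (zpowers gC).Normal := ⟨fun z hz c => by
      obtain ⟨i, rfl⟩ := mem_zpowers_iff.1 hz
      refine mem_zpowers_iff.2 ⟨i, ?_⟩
      have hcg : Commute c gC := Subtype.ext (mem_cent_iff.1 c.2)
      rw [(hcg.zpow_right i).eq, mul_inv_cancel_right]⟩
    have hz : IsPGroup 3 (zpowers gC) := IsPGroup.of_card (n := 1)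
      (by rw [Nat.card_zpowers, ← Subgroup.orderOf_coe, pow_one]; exact hg)
    have := S.is_maximal' (S.isPGroup'.to_sup_of_normal_right hz) le_sup_left
    exact this ▸ mem_sup_right (mem_zpowers gC)
  have hidx : (S : Subgroup (cent g)).index = 4 := by
    have := Subgroup.card_mul_index (S : Subgroup (cent g))
    rw [hS, hC] at this
    omega
  have hNS : normalizer ((S : Subgroup (cent g)) : Set (cent g)) = S := by
    set N := normalizer ((S : Subgroup (cent g)) : Set (cent g)) with hN
    have hi : N.index ∣ 2 ^ 2 := by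
      have := Subgroup.index_dvd_of_le (le_normalizer (H := (S : Subgroup (cent g))))
      rw [hidx] at this
      norm_num
      exact this
    have hm : N.index % 3 = 1 := by
      rw [hN, sylow_index]
      exact card_sylow_modEq_one 3 (cent g)
    obtain ⟨k, hk, e⟩ := (Nat.dvd_prime_pow Nat.prime_two).1 hi
    interval_cases k
    · exfalso
      rw [pow_zero] at e
      obtain ⟨T, hT⟩ := Sylow.exists_subgroup_card_pow_prime (G := cent g) 2 (n := 2) (by rw [hC]; norm_num)
      have hmap := card_map_subtype (cent g)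
      refine no_four_normalising F hg ((S : Subgroup (cent g)).map (cent g).subtype) (T.map (cent g).subtype)
        ((hmap _).trans hS) ⟨gC, hgS, rfl⟩ ((hmap T).trans hT) (Subgroup.map_subtype_le T) ?_
      rintro _ ⟨y, -, rfl⟩
      refine mem_normalizer_of_conj ?_
      rintro _ ⟨s, hs, rfl⟩
      have hyN : y ∈ N := by rw [Subgroup.index_eq_one.1 e]; trivial
      exact ⟨y * s * y⁻¹, conj_mem_of_mem_normalizer hyN hs, rfl⟩
    · rw [e] at hm; norm_num at hm
    · refine (eq_of_le_of_card_ge le_normalizer ?_).symm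
      have := Subgroup.card_mul_index N
      rw [e, hC] at this
      rw [hS]
      show Nat.card N ≤ 9
      norm_num at this ⊢
      omega
  rw [hNS]
  intro a ha
  rw [mem_centralizer_iff]
  intro b hb
  exact congrArg Subtype.val (IsPGroup.commutative_of_card_eq_prime_sq (p := 3) hS ⟨b, hb⟩ ⟨a, ha⟩)

/-- The four group of `C(g)` as a normal subgroup of index 9. -/
theorem exists_complement (F : Facts G) {g : G} (hg : orderOf g = 3) :
    ∃ K : Subgroup (cent g), K.Normal ∧ Nat.card K = 4 ∧
      ∀ x : cent g, ∀ k : ℕ, x ^ 2 ^ k = 1 → x ∈ K := by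
  haveI : Fact (Nat.Prime 3) := ⟨by norm_num⟩
  obtain ⟨S⟩ : Nonempty (Sylow 3 (cent g)) := inferInstance
  obtain ⟨hS, hP⟩ := normalizer_le_centralizer_three F hg S
  set K := (MonoidHom.transferSylow S hP).ker with hKdef
  have hC : Nat.card (cent g) = 36 := F.three g hg
  have hK : Nat.card K = 4 := by
    have h := (MonoidHom.ker_transferSylow_isComplement' S hP).card_mul_card
    rw [hS, hC, ← hKdef] at h
    omega
  have hi : K.index = 9 := by
    have h := Subgroup.card_mul_index K
    rw [hK, hC] at h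
    omega
  refine ⟨K, MonoidHom.normal_ker _, hK, fun x k hx => ?_⟩
  haveI : K.Normal := MonoidHom.normal_ker _
  have h9 : x ^ 9 ∈ K := hi ▸ Subgroup.pow_index_mem K x
  have hco : Nat.gcd 9 (2 ^ k) = 1 := Nat.Coprime.pow_right k (by norm_num)
  have hxK : ((x : cent g ⧸ K)) = 1 := by
    have h1 : ((x : cent g ⧸ K)) ^ 9 = 1 := by rw [← QuotientGroup.mk_pow, (QuotientGroup.eq_one_iff _).2 h9]
    have h2 : ((x : cent g ⧸ K)) ^ (2 ^ k) = 1 := by rw [← QuotientGroup.mk_pow, hx, QuotientGroup.mk_one]
    have h3 := pow_gcd_eq_one.2 ⟨h1, h2⟩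
    rwa [hco, pow_one] at h3
  exact (QuotientGroup.eq_one_iff x).1 hxK

/-- Everything about the four group of an element of order 3. -/
theorem four_spec (F : Facts G) {g : G} (hg : orderOf g = 3) :
    Nat.card (fourG g) = 4 ∧ fourG g ≤ cent g ∧ cent g ≤ normalizer (fourG g : Set G) ∧
      (∀ x ∈ fourG g, x * x = 1) ∧ ∀ x ∈ cent g, ∀ k : ℕ, x ^ 2 ^ k = 1 → x ∈ fourG g := by
  obtain ⟨K, hKn, hcK, htwo⟩ := exists_complement F hg
  have hC : Nat.card (cent g) = 36 := F.three g hg
  set V : Subgroup G := K.map (cent g).subtype with hVdef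
  have hV : Nat.card V = 4 :=
    (Nat.card_congr (Subgroup.equivMapOfInjective _ _ (cent g).subtype_injective).toEquiv).symm.trans hcK
  have hVC : V ≤ cent g := Subgroup.map_subtype_le K
  have hVn : cent g ≤ normalizer (V : Set G) := fun c hc => by
    refine mem_normalizer_of_conj ?_
    rintro _ ⟨x, hx, rfl⟩
    exact ⟨⟨c, hc⟩ * x * ⟨c, hc⟩⁻¹, hKn.conj_mem x hx _, rfl⟩
  have hsq : ∀ x ∈ V, x * x = 1 := by
    intro x hx
    by_contra hne
    have h4 : orderOf x ∣ 2 ^ 2 := by
      have := orderOf_dvd_natCard (⟨x, hx⟩ : V)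
      rw [Subgroup.orderOf_mk, hV] at this
      norm_num
      exact this
    obtain ⟨k, hk, e⟩ := (Nat.dvd_prime_pow Nat.prime_two).1 h4
    have he : orderOf x = 4 := by
      interval_cases k
      · rw [pow_zero, orderOf_eq_one_iff] at e
        exact absurd (by rw [e, one_mul]) hne
      · rw [pow_one] at e
        exact absurd (sq_of_orderOf e) hne
      · rw [e]; norm_num
    have hzx : zpowers x = V :=
      eq_of_le_of_card_ge (zpowers_le.2 hx) (by rw [Nat.card_zpowers, he, hV])
    have ht : orderOf (x * x) = 2 := by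
      rw [← pow_two, orderOf_pow' _ two_ne_zero, he]; norm_num
    have hCle : cent g ≤ cent (x * x) := fun c hc => mem_cent_iff'.2 <| by
      have hmem : c * (x * x) * c⁻¹ ∈ V :=
        conj_mem_of_mem_normalizer (hVn hc) (mul_mem hx hx)
      rw [← hzx] at hmem
      have ho : orderOf (c * (x * x) * c⁻¹) = 2 := by
        rw [← MulAut.conj_apply, MulEquiv.orderOf_eq, ht]
      classical
      obtain ⟨i, hi, hie⟩ := Finset.mem_image.1 (mem_zpowers_iff_mem_range_orderOf.1 hmem)
      rw [Finset.mem_range, he] at hi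
      rw [← hie, orderOf_pow, he] at ho
      rw [← hie, ← pow_two]
      interval_cases i <;> first | rfl | (exfalso; norm_num at ho)
    have := Subgroup.card_dvd_of_le hCle
    rw [hC, F.two _ ht] at this
    norm_num at this
  have hFour : fourG g = V := by
    refine le_antisymm ((closure_le _).2 ?_) fun x hx => subset_closure ⟨hVC hx, hsq x hx⟩
    rintro x ⟨hxC, hx2⟩
    refine ⟨⟨x, hxC⟩, htwo _ 1 (Subtype.ext ?_), rfl⟩
    rw [pow_one, SubgroupClass.coe_pow, pow_two]
    exact hx2
  rw [hFour]
  refine ⟨hV, hVC, hVn, hsq, fun x hx k hk => ⟨⟨x, hx⟩, htwo _ k (Subtype.ext ?_), rfl⟩⟩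
  rw [SubgroupClass.coe_pow]
  exact hk

section Four

variable (F : Facts G) {g : G} (hg : orderOf g = 3)

include F hg

theorem four_card : Nat.card (fourG g) = 4 := (four_spec F hg).1

theorem four_le : fourG g ≤ cent g := (four_spec F hg).2.1

theorem four_norm : cent g ≤ normalizer (fourG g : Set G) := (four_spec F hg).2.2.1

theorem four_sq {x : G} (hx : x ∈ fourG g) : x * x = 1 := (four_spec F hg).2.2.2.1 x hx

theorem mem_four {x : G} (hx : x ∈ cent g) {k : ℕ} (h : x ^ 2 ^ k = 1) : x ∈ fourG g :=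
  (four_spec F hg).2.2.2.2 x hx k h

theorem mem_four_of_invol {t : G} (hx : t ∈ cent g) (ht : orderOf t = 2) : t ∈ fourG g :=
  mem_four F hg hx (k := 1) (by rw [pow_one, ← ht]; exact pow_orderOf_eq_one t)

theorem four_comm {x y : G} (hx : x ∈ fourG g) (hy : y ∈ fourG g) : x * y = y * x := by
  have h1 := four_sq F hg (mul_mem hx hy)
  have hxi : x⁻¹ = x := inv_eq_of_mul_eq_one_right (four_sq F hg hx)
  have hyi : y⁻¹ = y := inv_eq_of_mul_eq_one_right (four_sq F hg hy)
  have := inv_eq_of_mul_eq_one_right h1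
  rwa [mul_inv_rev, hxi, hyi, eq_comm] at this

theorem four_le_cent {t : G} (ht : t ∈ fourG g) : fourG g ≤ cent t := fun _ hx =>
  mem_cent_iff.2 (four_comm F hg hx ht)

/-- An element of order 3 and an involution commuting. -/
theorem card_cent_inf {t : G} (ht : orderOf t = 2) (htg : t ∈ cent g) :
    Nat.card ↥(cent g ⊓ cent t) = 12 := by
  have h1 := Subgroup.card_dvd_of_le (inf_le_left : cent g ⊓ cent t ≤ cent g)
  have h2 := Subgroup.card_dvd_of_le (inf_le_right : cent g ⊓ cent t ≤ cent t)
  rw [F.three g hg] at h1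
  rw [F.two t ht] at h2
  refine Nat.dvd_antisymm ((Nat.dvd_gcd h1 h2).trans (by norm_num)) (Nat.Coprime.mul_dvd_of_dvd_of_dvd
    (m := 3) (n := 4) (by norm_num) ?_ ?_)
  · rw [← card_cube hg]
    refine Subgroup.card_dvd_of_le (zpowers_le.2 (mem_inf.2 ⟨mem_cent_iff.2 rfl, ?_⟩))
    exact mem_cent_iff.2 (mem_cent_iff.1 htg).symm
  · rw [← four_card F hg]
    exact Subgroup.card_dvd_of_le (le_inf (four_le F hg) (four_le_cent F hg (mem_four_of_invol F hg htg ht)))

/-- The centraliser moves every involution of the four group to every other. -/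
theorem four_trans {v w : G} (hv : v ∈ fourG g) (hv1 : v ≠ 1) (hw : w ∈ fourG g) (hw1 : w ≠ 1) :
    ∃ h ∈ cent g, h * v * h⁻¹ = w := by
  set A : Set G := (fourG g : Set G) \ {1} with hA
  have hAc : A.ncard = 3 := by
    rw [hA, Set.ncard_sdiff (by simpa using (fourG g).one_mem), ← Nat.card_coe_set_eq, Set.ncard_singleton]
    simp only [SetLike.coe_sort_coe]
    rw [four_card F hg]
  have hsub : orbC (cent g) v ⊆ A := by
    refine orbC_subset (A := A) (fun l hl x hx => ⟨conj_mem_of_mem_normalizer (four_norm F hg hl) hx.1, ?_⟩) ⟨hv, hv1⟩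
    simp only [Set.mem_singleton_iff, conj_eq_one_iff]
    exact hx.2
  have h := card_orbC (cent g) v
  rw [card_cent_inf F hg (orderOf_two (four_sq F hg hv) hv1) (four_le F hg hv), F.three g hg] at h
  have heq : orbC (cent g) v = A := Set.eq_of_subset_of_ncard_le hsub (by omega) (Set.toFinite _)
  exact mem_orbC.1 (heq.symm.subset ⟨hw, hw1⟩)

end Four

/-- The kernel of the action of `C(t)` on its Sylow 2-subgroups. -/
noncomputable def core (t : G) : Subgroup G :=
  (MulAction.toPermHom (cent t) (Sylow 2 (cent t))).ker.map (cent t).subtype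

theorem core_le (t : G) : core t ≤ cent t := by
  rw [core]
  exact Subgroup.map_subtype_le _

theorem cent_le_normalizer_core (t : G) : cent t ≤ normalizer (core t : Set G) := by
  intro c hc
  refine mem_normalizer_of_conj fun z hz => ?_
  rw [core, Subgroup.mem_map] at hz ⊢
  obtain ⟨x, hx, rfl⟩ := hz
  have hn : (MulAction.toPermHom (cent t) (Sylow 2 (cent t))).ker.Normal := MonoidHom.normal_ker _
  exact ⟨(⟨c, hc⟩ : cent t) * x * (⟨c, hc⟩ : cent t)⁻¹, hn.conj_mem x hx (⟨c, hc⟩ : cent t), rfl⟩

section Core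

variable (F : Facts G) {t g : G} (ht : orderOf t = 2) (hg : orderOf g = 3) (hgt : g ∈ cent t)

include F ht hg hgt

theorem core_spec : Nat.card (core t) = 64 ∧ Nat.card (Sylow 2 (cent t)) = 3 ∧
    ∀ T : Sylow 2 (cent t), (⟨g, hgt⟩ : cent t) • T ≠ T := by
  haveI : Fact (Nat.Prime 2) := ⟨by norm_num⟩
  have hH : Nat.card (cent t) = 384 := F.two t ht
  have hS : ∀ T : Sylow 2 (cent t), Nat.card (T : Subgroup (cent t)) = 128 := fun T =>
    card_sylow_eq (a := 7) (b := 3) (hH.trans (by norm_num)) (by norm_num) T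
  have hidx : ∀ T : Sylow 2 (cent t), (T : Subgroup (cent t)).index = 3 := fun T => by
    have := Subgroup.card_mul_index (T : Subgroup (cent t))
    rw [hS T, hH] at this
    omega
  have htg : t ∈ cent g := mem_cent_iff.2 (mem_cent_iff.1 hgt).symm
  obtain ⟨T0⟩ : Nonempty (Sylow 2 (cent t)) := inferInstance
  -- a Sylow 2-subgroup is not normal
  have hnn : ∀ R : Subgroup (cent t), R.Normal → Nat.card R ≠ 128 := by
    intro R hR hc
    set A : Set G := ((R.map (cent t).subtype : Subgroup G) : Set G) with hA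
    have hAc : A.ncard = 128 := by
      rw [hA, ← Nat.card_coe_set_eq]
      simp only [SetLike.coe_sort_coe]
      rw [card_map_subtype, hc]
    haveI : Fact (Nat.Prime 3) := ⟨by norm_num⟩
    have h := ncard_modEq_fixed (p := 3) (L := zpowers g) (IsPGroup.of_card (n := 1) (by rw [card_cube hg, pow_one]))
      A (fun l hl x hx => by
        obtain ⟨y, hy, rfl⟩ := hx
        have hlC : l ∈ cent t := (zpowers_le.2 hgt) hl
        exact ⟨⟨l, hlC⟩ * y * ⟨l, hlC⟩⁻¹, hR.conj_mem y hy _, rfl⟩)
    have hfix : {x ∈ A | ∀ l ∈ zpowers g, l * x = x * l} = (fourG g : Set G) := by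
      ext x
      constructor
      · rintro ⟨⟨y, hy, rfl⟩, hx⟩
        refine mem_four F hg (mem_cent_iff.2 (hx g (mem_zpowers g)).symm) (k := 7) ?_
        have := pow_card_eq_one' (G := R) (x := ⟨y, hy⟩)
        rw [hc] at this
        have h' := congrArg (fun z : R => ((z : cent t) : G)) this
        simp only [SubgroupClass.coe_pow, OneMemClass.coe_one] at h'
        exact h' 
      · intro hx
        have hxt : x ∈ cent t := four_le_cent F hg (mem_four_of_invol F hg htg ht) hx
        refine ⟨⟨⟨x, hxt⟩, ?_, rfl⟩, fun l hl => ?_⟩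
        · have hi : R.index = 3 := by
            have := Subgroup.card_mul_index R
            rw [hc, hH] at this
            omega
          have h3 : (⟨x, hxt⟩ : cent t) ^ 3 ∈ R := hi ▸ Subgroup.pow_index_mem R _
          rwa [pow_succ, pow_two, show (⟨x, hxt⟩ : cent t) * ⟨x, hxt⟩ = 1 from
            Subtype.ext (four_sq F hg hx), one_mul] at h3
        · obtain ⟨i, rfl⟩ := mem_zpowers_iff.1 hl
          exact Commute.zpow_left (mem_cent_iff.1 (four_le F hg hx) : Commute x g).symm i
    rw [hfix, hAc, ← Nat.card_coe_set_eq] at h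
    simp only [SetLike.coe_sort_coe] at h
    rw [four_card F hg] at h
    norm_num at h
  have hn2 : Nat.card (Sylow 2 (cent t)) = 3 := by
    have := Sylow.card_dvd_index T0
    rw [hidx] at this
    refine ((Nat.dvd_prime (by norm_num)).1 this).resolve_left fun h1 => ?_
    exact hnn _ (Subgroup.normalizer_eq_top_iff.1 (Subgroup.index_eq_one.1
      ((sylow_index T0).trans h1))) (hS T0)
  have hnorm : ∀ T : Sylow 2 (cent t), normalizer ((T : Subgroup (cent t)) : Set (cent t)) = T := by
    intro T
    refine (eq_of_le_of_card_ge le_normalizer ?_).symm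
    have := Subgroup.card_mul_index (normalizer ((T : Subgroup (cent t)) : Set (cent t)))
    rw [sylow_index, hn2, hH] at this
    rw [hS T]
    omega
  set φ := MulAction.toPermHom (cent t) (Sylow 2 (cent t)) with hφ
  have hker : φ.ker ≤ T0 := fun x hx => by
    rw [← hnorm T0, ← sylow_smul_iff]
    exact Equiv.Perm.ext_iff.1 (MonoidHom.mem_ker.1 hx) T0
  have hmove : ∀ T : Sylow 2 (cent t), (⟨g, hgt⟩ : cent t) • T ≠ T := by
    intro T hT
    rw [sylow_smul_iff, hnorm T] at hT
    have := orderOf_dvd_natCard (⟨⟨g, hgt⟩, hT⟩ : (T : Subgroup (cent t)))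
    rw [Subgroup.orderOf_mk, Subgroup.orderOf_mk, hg, hS T] at this
    norm_num at this
  refine ⟨?_, hn2, hmove⟩
  have hk := Subgroup.card_dvd_of_le hker
  rw [hS] at hk
  have hr : φ.range.index * Nat.card φ.range = 6 := by
    rw [mul_comm, Subgroup.card_mul_index, Nat.card_perm, hn2]; rfl
  have hki : φ.ker.index ∣ 6 := by
    rw [Subgroup.index_ker, ← hr]; exact dvd_mul_left _ _
  have hcases : ∀ a : ℕ, a ∣ 6 → a = 1 ∨ a = 2 ∨ a = 3 ∨ a = 6 := fun a ha => by
    have hle : a ≤ 6 := Nat.le_of_dvd (by norm_num) ha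
    interval_cases a <;> simp_all
  have hmul := Subgroup.card_mul_index φ.ker
  rw [hH] at hmul
  have hne : Nat.card φ.ker ≠ 128 := hnn _ (MonoidHom.normal_ker φ)
  have h128 : Nat.card φ.ker ≤ 128 := Nat.le_of_dvd (by norm_num) hk
  rw [core, card_map_subtype, ← hφ]
  rcases hcases _ hki with hi | hi | hi | hi <;> rw [hi] at hmul <;> omega

/-- A 2-subgroup of `C(t)` containing `s` and its conjugate by `g` has `s` in the core. -/
theorem mem_core_of_pair (R : Subgroup G) (hR : IsPGroup 2 R) (hRt : R ≤ cent t) {s : G} (hs : s ∈ R)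
    (hs' : g * s * g⁻¹ ∈ R) : s ∈ core t := by
  classical
  haveI : Fact (Nat.Prime 2) := ⟨by norm_num⟩
  obtain ⟨-, hn, hmove⟩ := core_spec F ht hg hgt
  have hR' : IsPGroup 2 (R.subgroupOf (cent t)) := hR.of_equiv (Subgroup.subgroupOfEquivOfLe hRt).symm
  obtain ⟨T, hT⟩ := hR'.exists_le_sylow
  let c : cent t := ⟨g, hgt⟩
  let x : cent t := ⟨s, hRt hs⟩
  have hfix : ∀ y : cent t, (y : G) ∈ R → y • T = T := fun y hy =>
    sylow_smul_iff.2 (le_normalizer (hT hy))
  have h1 : x • T = T := hfix x hs
  have h2 : x • (c⁻¹ • T) = c⁻¹ • T := by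
    rw [smul_smul, eq_inv_smul_iff, smul_smul, ← mul_assoc]
    exact hfix _ hs'
  refine ⟨x, ?_, rfl⟩
  rw [SetLike.mem_coe, MonoidHom.mem_ker]
  refine Equiv.Perm.ext fun U => ?_
  show x • U = U
  by_contra hU
  have hne : c⁻¹ • T ≠ T := fun e => hmove T (inv_smul_eq_iff.1 e).symm
  have hUT : U ≠ T := fun e => hU (e ▸ h1)
  have hUc : U ≠ c⁻¹ • T := fun e => hU (e ▸ h2)
  have hxT : x • U ≠ T := fun e => hUT (MulAction.injective x (e.trans h1.symm))
  have hxc : x • U ≠ c⁻¹ • T := fun e => hUc (MulAction.injective x (e.trans h2.symm))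
  letI := Fintype.ofFinite (Sylow 2 (cent t))
  have h4 := Finset.card_le_univ ({T, c⁻¹ • T, U, x • U} : Finset (Sylow 2 (cent t)))
  rw [← Nat.card_eq_fintype_card, hn, Finset.card_insert_of_notMem, Finset.card_insert_of_notMem,
    Finset.card_pair (fun e => hU e.symm)] at h4
  · omega
  · simp only [Finset.mem_insert, Finset.mem_singleton, not_or]
    exact ⟨fun e => hUc e.symm, fun e => hxc e.symm⟩
  · simp only [Finset.mem_insert, Finset.mem_singleton, not_or]
    exact ⟨fun e => hne e.symm, fun e => hUT e.symm, fun e => hxT e.symm⟩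

/-- A 2-subgroup of `C(t)` normalised by `g` lies in the core. -/
theorem le_core (R : Subgroup G) (hR : IsPGroup 2 R) (hRt : R ≤ cent t)
    (hn : g ∈ normalizer (R : Set G)) : R ≤ core t := fun _ hs =>
  mem_core_of_pair F ht hg hgt R hR hRt hs (conj_mem_of_mem_normalizer hn hs)

theorem core_card : Nat.card (core t) = 64 := (core_spec F ht hg hgt).1

theorem core_isPGroup : IsPGroup 2 (core t) :=
  IsPGroup.of_card (n := 6) (by rw [core_card F ht hg hgt]; rfl)

theorem four_le_core : fourG g ≤ core t :=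
  le_core F ht hg hgt _ (IsPGroup.of_card (n := 2) (by rw [four_card F hg]; rfl))
    (four_le_cent F hg (mem_four_of_invol F hg (mem_cent_iff.2 (mem_cent_iff.1 hgt).symm) ht))
    (four_norm F hg (mem_cent_iff.2 rfl))

omit hgt in
theorem core_inf_cent (hgt : g ∈ cent t) {h : G} (hh : orderOf h = 3) :
    core t ⊓ cent h ≤ fourG h := fun x hx => by
  obtain ⟨hxc, hxh⟩ := mem_inf.1 hx
  refine mem_four F hh hxh (k := 6) ?_
  have := pow_card_eq_one' (G := core t) (x := ⟨x, hxc⟩)
  rw [core_card F ht hg hgt] at this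
  simpa using congrArg Subtype.val this

/-- `g` is inverted in `C(t)`. -/
theorem exists_inverting : ∃ n ∈ cent t, n * g * n⁻¹ = g⁻¹ := by
  haveI : Fact (Nat.Prime 3) := ⟨by norm_num⟩
  set N := cent t ⊓ normalizer (zpowers g : Set G) with hN
  by_contra hcon
  push_neg at hcon
  have hsub : orbC N g ⊆ {g} := by
    rintro _ ⟨n, hn, rfl⟩
    obtain ⟨hn1, hn2⟩ := mem_inf.1 hn
    obtain ⟨i, hi, hie⟩ : ∃ i < 3, g ^ i = n * g * n⁻¹ := by
      classical
      have hmem := conj_mem_of_mem_normalizer hn2 (mem_zpowers g)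
      obtain ⟨i, hi, hie⟩ := Finset.mem_image.1 (mem_zpowers_iff_mem_range_orderOf.1 hmem)
      exact ⟨i, by rwa [Finset.mem_range, hg] at hi, hie⟩
    interval_cases i
    · rw [pow_zero, eq_comm, conj_eq_one_iff] at hie
      exact absurd hie (ne_one_of_orderOf (by norm_num) hg)
    · simpa using hie.symm
    · exfalso
      refine hcon n hn1 (hie ▸ (inv_eq_of_mul_eq_one_right ?_).symm)
      rw [← pow_succ']
      exact orderOf_dvd_iff_pow_eq_one.1 (by rw [hg])
  have h1 : (orbC N g).ncard = 1 := le_antisymm ((Set.ncard_le_ncard hsub).trans (Set.ncard_singleton g).le)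
    ((Set.ncard_pos).2 ⟨g, self_mem_orbC N g⟩)
  have hN12 : Nat.card N = 12 := by
    have h := card_orbC N g
    rw [h1, one_mul] at h
    rw [← h, ← card_cent_inf F hg ht (mem_cent_iff.2 (mem_cent_iff.1 hgt).symm)]
    refine Nat.card_congr (MulEquiv.subgroupCongr (le_antisymm ?_ ?_)).toEquiv
    · exact fun x hx => mem_inf.2 ⟨(mem_inf.1 hx).2, (mem_inf.1 (mem_inf.1 hx).1).1⟩
    · intro x hx
      obtain ⟨hxg, hxt⟩ := mem_inf.1 hx
      refine mem_inf.2 ⟨mem_inf.2 ⟨hxt, mem_normalizer_of_conj fun y hy => ?_⟩, hxg⟩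
      obtain ⟨j, rfl⟩ := mem_zpowers_iff.1 hy
      rw [(Commute.zpow_right (mem_cent_iff.1 hxg : Commute x g) j).eq, mul_inv_cancel_right]
      exact hy
  let P : Sylow 3 (cent t) := Sylow.ofCard (zpowers (⟨g, hgt⟩ : cent t)) (by
    rw [Nat.card_zpowers, Subgroup.orderOf_mk, hg, F.two t ht]
    rw [show (384 : ℕ) = 3 * 128 by norm_num, Nat.factorization_mul (by norm_num) (by norm_num)]
    simp [Nat.factorization_eq_zero_of_not_dvd (show ¬ 3 ∣ 128 by norm_num),
      Nat.Prime.factorization_self (show Nat.Prime 3 by norm_num)])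
  have hm := card_sylow_modEq_one 3 (cent t)
  rw [← sylow_index P] at hm
  have hPN : Nat.card (normalizer ((P : Subgroup (cent t)) : Set (cent t))) = Nat.card N := by
    have e : (normalizer ((P : Subgroup (cent t)) : Set (cent t))).map (cent t).subtype = N := by
      have key : ∀ y : cent t, (y : G) ∈ zpowers g ↔ y ∈ zpowers (⟨g, hgt⟩ : cent t) := fun y => by
        simp only [mem_zpowers_iff, Subtype.ext_iff, SubgroupClass.coe_zpow]
      ext x
      constructor
      · rintro ⟨y, hy, rfl⟩
        refine mem_inf.2 ⟨y.2, mem_normalizer_of_conj fun z hz => ?_⟩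
        exact (key _).2 (conj_mem_of_mem_normalizer hy ((key ⟨z, (zpowers_le.2 hgt) hz⟩).1 hz))
      · intro hx
        obtain ⟨hxt, hxn⟩ := mem_inf.1 hx
        exact ⟨⟨x, hxt⟩, mem_normalizer_of_conj fun z hz =>
          (key _).1 (conj_mem_of_mem_normalizer hxn ((key z).2 hz)), rfl⟩
    rw [← e, card_map_subtype]
  have hi := Subgroup.card_mul_index (normalizer ((P : Subgroup (cent t)) : Set (cent t)))
  rw [hPN, hN12, F.two t ht] at hi
  rw [show (normalizer ((P : Subgroup (cent t)) : Set (cent t))).index = 32 by omega] at hm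
  exact absurd hm (by decide)

end Core

end Cfsg.Agent.Order443520.Loc
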