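import Cfsg.Agent.Lib.Order95040.Elem
import Cfsg.Agent.Lib.Order443520.Facts
import Cfsg.Agent.Lib.Subnormal.Join
import Cfsg.Agent.Lib.Order7920.Nse
import Cfsg.Agent.Lib.Mathieu.Simple
import Cfsg.Agent.Lib.Mathieu.OneBlockM22

/-!
# Simplicity of a group of order 443520 from the numbers of elements of each order

If these numbers are among those of `M₂₂`, then a Sylow 11-subgroup has normaliser of order 55 and
is self-centralising, which forces simplicity.
-/

set_option autoImplicit false
set_option linter.style.haveILetI false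

namespace Cfsg.Agent.Order443520

open Subgroup
open Order95040 (exists_sylow)

/-- The prime divisors five and eleven occur once. -/
theorem factorization_five_eleven {G : Type*} [Group G] (hG : Nat.card G = 443520) :
    (Nat.card G).factorization 5 = 1 ∧ (Nat.card G).factorization 11 = 1 := by
  rw [hG]
  constructor
  · rw [show (443520 : ℕ) = 5 * 88704 by rfl, Nat.factorization_mul (by norm_num) (by norm_num),
      Finsupp.add_apply, Nat.prime_five.factorization_self,
      Nat.factorization_eq_zero_of_not_dvd (by norm_num)]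
  · rw [show (443520 : ℕ) = 11 * 40320 by rfl, Nat.factorization_mul (by norm_num) (by norm_num),
      Finsupp.add_apply, (by norm_num : Nat.Prime 11).factorization_self,
      Nat.factorization_eq_zero_of_not_dvd (by norm_num)]

theorem factorization_eleven {G : Type*} [Group G] (hG : Nat.card G = 443520) :
    (Nat.card G).factorization 11 = 1 := (factorization_five_eleven hG).2

theorem factorization_five {G : Type*} [Group G] (hG : Nat.card G = 443520) :
    (Nat.card G).factorization 5 = 1 := (factorization_five_eleven hG).1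

/-- Elements of order 11 of `M₂₂`. -/
theorem M22_eleven [Finite Cfsg.Spor.M22] {x : Cfsg.Spor.M22} (hx : orderOf x = 11) :
    Nat.card (cent x) = 11 ∧ Nat.card (normalizer (zpowers x : Set Cfsg.Spor.M22)) = 55 := by
  classical
  haveI : Fact (Nat.Prime 11) := ⟨by norm_num⟩
  have hcard := Mathieu.card_M22
  obtain ⟨x₀, g, hx₀, hg, hle⟩ := Mathieu.M22_elements.2
  obtain ⟨P₀, hP₀, hP₀s⟩ := exists_sylow (factorization_eleven hcard) hx₀
  obtain ⟨P, hP, hPs⟩ := exists_sylow (factorization_eleven hcard) hx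
  have hmod := card_sylow_modEq_one 11 Cfsg.Spor.M22
  have hi₀ := (normalizer (zpowers x₀ : Set Cfsg.Spor.M22)).index_mul_card
  have hidx := (normalizer (zpowers x : Set Cfsg.Spor.M22)).index_mul_card
  have e₀ : Nat.card (Sylow 11 Cfsg.Spor.M22) = (normalizer (zpowers x₀ : Set Cfsg.Spor.M22)).index := by
    rw [P₀.card_eq_index_normalizer, hP₀s]
  have e : Nat.card (Sylow 11 Cfsg.Spor.M22) = (normalizer (zpowers x : Set Cfsg.Spor.M22)).index := by
    rw [P.card_eq_index_normalizer, hPs]
  rw [← e₀, hcard] at hi₀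
  rw [← e, hcard] at hidx
  have h11 : 11 ∣ Nat.card (normalizer (zpowers x₀ : Set Cfsg.Spor.M22)) :=
    dvd_trans (dvd_of_eq (by rw [Nat.card_zpowers, hx₀])) (card_dvd_of_le le_normalizer)
  obtain ⟨j, hj⟩ := h11
  have hj5 : j ≤ 5 := by
    rw [hj] at hle
    omega
  have hN : Nat.card (normalizer (zpowers x : Set Cfsg.Spor.M22)) = 55 := by
    rw [hj] at hi₀
    unfold Nat.ModEq at hmod
    have hn : Nat.card (Sylow 11 Cfsg.Spor.M22) = 8064 := by interval_cases j <;> omega
    rw [hn] at hidx
    omega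
  refine ⟨?_, hN⟩
  have hd : Nat.card (cent x) ∣ 55 := hN ▸ card_dvd_of_le (Order7920.C_le_N x)
  have h11' : 11 ∣ Nat.card (cent x) := by
    rw [← hx, ← Subgroup.orderOf_mk x (Order7920.mem_C.2 rfl)]
    exact _root_.orderOf_dvd_natCard _
  have key : ∀ i < 56, i ∣ 55 → 11 ∣ i → i = 11 ∨ i = 55 := by decide
  refine (key _ (Nat.lt_succ_of_le (Nat.le_of_dvd (by norm_num) hd)) hd h11').resolve_right fun h55 => ?_
  have hCN : cent x = normalizer (zpowers x : Set Cfsg.Spor.M22) :=
    eq_of_le_of_card_ge (Order7920.C_le_N x) (le_of_eq (hN.trans h55.symm))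
  obtain ⟨h, hh⟩ := MulAction.exists_smul_eq Cfsg.Spor.M22 P₀ P
  have hmap : ∀ z ∈ zpowers x₀, h * z * h⁻¹ ∈ zpowers x := fun z hz => by
    rw [← hP, ← hh]
    exact ⟨z, hP₀ ▸ hz, rfl⟩
  have hmap' : ∀ z ∈ zpowers x, h⁻¹ * z * h ∈ zpowers x₀ := fun z hz => by
    rw [← hP, ← hh] at hz
    obtain ⟨w, hw, rfl⟩ := hz
    show h⁻¹ * (h * w * h⁻¹) * h ∈ _
    rw [show h⁻¹ * (h * w * h⁻¹) * h = w by group]
    exact hP₀ ▸ hw
  have hgN : ∀ z ∈ zpowers x₀, g * z * g⁻¹ ∈ zpowers x₀ := by
    rintro _ ⟨i, rfl⟩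
    show g * x₀ ^ i * g⁻¹ ∈ _
    rw [← conj_zpow, hg]
    exact zpow_mem (pow_mem (mem_zpowers x₀) 3) i
  have hmem : h * g * h⁻¹ ∈ normalizer (zpowers x : Set Cfsg.Spor.M22) := by
    refine Subnormal.mem_normalizer_of_cj_eq (Subnormal.eq_of_cj_le ?_)
    rintro _ ⟨z, hz, rfl⟩
    show h * g * h⁻¹ * z * (h * g * h⁻¹)⁻¹ ∈ _
    rw [show h * g * h⁻¹ * z * (h * g * h⁻¹)⁻¹ = h * (g * (h⁻¹ * z * h) * g⁻¹) * h⁻¹ by group]
    exact hmap _ (hgN _ (hmap' z hz))
  rw [← hCN] at hmem
  have hcomm : h * x₀ * h⁻¹ * (h * g * h⁻¹) = h * g * h⁻¹ * (h * x₀ * h⁻¹) := by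
    obtain ⟨i, hi⟩ := hmap x₀ (mem_zpowers x₀)
    have hc : Commute x (h * g * h⁻¹) := hmem x rfl
    rw [← hi]
    exact hc.zpow_left i
  have hgx : x₀ * g = g * x₀ := by
    have := congrArg (fun z => h⁻¹ * z * h) hcomm
    simpa [mul_assoc] using this
  rw [← hgx, mul_inv_cancel_right] at hg
  have : x₀ ^ 2 = 1 := mul_left_cancel (a := x₀) (by rw [← pow_succ', ← hg, mul_one])
  have hd2 := orderOf_dvd_of_pow_eq_one this
  rw [hx₀] at hd2
  exact absurd hd2 (by norm_num)

/-- The possible numbers of elements of a given order in `M₂₂`. -/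
theorem M22_values [Finite Cfsg.Spor.M22] (n : ℕ) :
    Nat.card {g : Cfsg.Spor.M22 // orderOf g = n} = 1 ∨
      11 ∣ Nat.card {g : Cfsg.Spor.M22 // orderOf g = n} ∨
      Nat.card {g : Cfsg.Spor.M22 // orderOf g = n} = 80640 := by
  classical
  haveI := Fintype.ofFinite Cfsg.Spor.M22
  haveI : Fact (Nat.Prime 11) := ⟨by norm_num⟩
  have hM := Mathieu.card_M22
  rcases eq_or_ne n 1 with rfl | hn1
  · left
    rw [Nat.card_eq_one_iff_exists]
    exact ⟨⟨1, orderOf_one⟩, fun x => Subtype.ext (orderOf_eq_one_iff.1 x.2)⟩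
  rcases eq_or_ne n 11 with rfl | hn11
  · right; right
    have hP : ∀ P : Sylow 11 Cfsg.Spor.M22, Nat.card (P : Subgroup Cfsg.Spor.M22) = 11 := fun P => by
      rw [P.card_eq_multiplicity, factorization_eleven hM, pow_one]
    rw [SmallSimple.card_orderOf_eq_prime hP]
    obtain ⟨x, hx⟩ := exists_prime_orderOf_dvd_card' (G := Cfsg.Spor.M22) 11 (by rw [hM]; norm_num)
    obtain ⟨P, -, hPs⟩ := exists_sylow (factorization_eleven hM) hx
    have hidx := (normalizer (zpowers x : Set Cfsg.Spor.M22)).index_mul_card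
    rw [(M22_eleven hx).2, hM] at hidx
    rw [P.card_eq_index_normalizer, hPs]
    omega
  right; left
  have := Order7920.card_dvd_mul (G := Cfsg.Spor.M22) (n := n) (k := 40320) fun g hg => by
    refine Nat.Coprime.dvd_of_dvd_mul_left (m := 11) ?_ ?_
    · refine ((Nat.Prime.coprime_iff_not_dvd (by norm_num : Nat.Prime 11)).2 fun h => ?_).symm
      obtain ⟨y, hy⟩ := exists_prime_orderOf_dvd_card' 11 h
      have hy' : orderOf (y : Cfsg.Spor.M22) = 11 := (orderOf_coe y).trans hy
      have hgy : g ∈ cent (y : Cfsg.Spor.M22) := Order7920.mem_C.2 (Order7920.mem_C.1 y.2).symm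
      have hd := _root_.orderOf_dvd_natCard (⟨g, hgy⟩ : cent (y : Cfsg.Spor.M22))
      rw [(M22_eleven hy').1, ← Subgroup.orderOf_coe] at hd
      change orderOf g ∣ 11 at hd
      rw [hg] at hd
      rcases (Nat.dvd_prime (by norm_num)).1 hd with h | h
      · exact hn1 h
      · exact hn11 h
    · exact (card_subgroup_dvd_card _).trans (dvd_of_eq (hM.trans (by norm_num)))
  rw [hM] at this
  exact (Nat.mul_dvd_mul_iff_right (by norm_num : 0 < 40320)).1 this

section Group

variable {G : Type*} [Group G] [Finite G]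

/-- A group of order 443520 whose numbers of elements of each order are among the admissible
values has a self-centralising Sylow 11-subgroup with normaliser of order 55. -/
theorem eleven_of_values (hG : Nat.card G = 443520)
    (hval : ∀ n, 0 < Nat.card {g : G // orderOf g = n} → Nat.card {g : G // orderOf g = n} = 1 ∨
      11 ∣ Nat.card {g : G // orderOf g = n} ∨ Nat.card {g : G // orderOf g = n} = 80640)
    {x : G} (hx : orderOf x = 11) :
    Nat.card (cent x) = 11 ∧ Nat.card (normalizer (zpowers x : Set G)) = 55 := by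
  classical
  haveI : Fact (Nat.Prime 11) := ⟨by norm_num⟩
  haveI : Fact (Nat.Prime 5) := ⟨Nat.prime_five⟩
  have hP : ∀ P : Sylow 11 G, Nat.card (P : Subgroup G) = 11 := fun P => by
    rw [P.card_eq_multiplicity, factorization_eleven hG, pow_one]
  have hQ : ∀ P : Sylow 5 G, Nat.card (P : Subgroup G) = 5 := fun P => by
    rw [P.card_eq_multiplicity, factorization_five hG, pow_one]
  obtain ⟨P, -, hPs⟩ := exists_sylow (factorization_eleven hG) hx
  have hNmul := (normalizer (zpowers x : Set G)).index_mul_card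
  have hn : Nat.card (Sylow 11 G) = (normalizer (zpowers x : Set G)).index := by
    rw [P.card_eq_index_normalizer, hPs]
  rw [← hn, hG] at hNmul
  have h11N : 11 ∣ Nat.card (normalizer (zpowers x : Set G)) := by
    refine dvd_trans (dvd_of_eq ?_) (card_dvd_of_le le_normalizer)
    rw [Nat.card_zpowers, hx]
  obtain ⟨j, hj⟩ := h11N
  have hdvd : Nat.card (Sylow 11 G) ∣ 40320 := by
    rw [hj] at hNmul
    exact ⟨j, by linarith⟩
  have hcount := SmallSimple.card_orderOf_eq_prime hP
  have hv := hval 11 (by rw [hcount]; exact Nat.mul_pos Nat.card_pos (by norm_num))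
  rw [hcount] at hv
  have hmod : Nat.card (Sylow 11 G) % 11 = 1 := card_sylow_modEq_one 11 G
  have h8064 : Nat.card (Sylow 11 G) = 8064 := by
    rcases hv with h | h | h <;> omega
  have hN55 : Nat.card (normalizer (zpowers x : Set G)) = 55 := by
    rw [h8064] at hNmul; omega
  refine ⟨?_, hN55⟩
  have hd : Nat.card (cent x) ∣ 55 := hN55 ▸ card_dvd_of_le (Order7920.C_le_N x)
  have h11 : 11 ∣ Nat.card (cent x) := by
    rw [← hx, ← Subgroup.orderOf_mk x (Order7920.mem_C.2 rfl)]
    exact _root_.orderOf_dvd_natCard _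
  have key : ∀ i < 56, i ∣ 55 → 11 ∣ i → i = 11 ∨ i = 55 := by decide
  refine (key _ (Nat.lt_succ_of_le (Nat.le_of_dvd (by norm_num) hd)) hd h11).resolve_right fun h55 => ?_
  obtain ⟨y, hy⟩ := exists_prime_orderOf_dvd_card' (G := cent x) 5 (by rw [h55]; norm_num)
  have hy' : orderOf (y : G) = 5 := (orderOf_coe y).trans hy
  obtain ⟨Q, hQy⟩ := SmallSimple.zpowers_eq_sylow hQ hy'
  have hxN : x ∈ normalizer ((Q : Subgroup G) : Set G) := by
    refine centralizer_le_normalizer _ (mem_centralizer_iff.2 fun w hw => ?_)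
    rw [SetLike.mem_coe, hQy] at hw
    obtain ⟨i, rfl⟩ := hw
    exact ((show Commute (y : G) x from Order7920.mem_C.1 y.2).zpow_left i).eq
  have hd11 : 11 ∣ Nat.card (normalizer ((Q : Subgroup G) : Set G)) := by
    rw [← hx, ← Subgroup.orderOf_mk x hxN]
    exact _root_.orderOf_dvd_natCard _
  have hd5 : 5 ∣ Nat.card (normalizer ((Q : Subgroup G) : Set G)) :=
    dvd_trans (dvd_of_eq (hQ Q).symm) (card_dvd_of_le le_normalizer)
  obtain ⟨k, hk⟩ := (Nat.Coprime.mul_dvd_of_dvd_of_dvd (by norm_num) hd11 hd5 :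
    11 * 5 ∣ Nat.card (normalizer ((Q : Subgroup G) : Set G)))
  have hmul := (normalizer ((Q : Subgroup G) : Set G)).index_mul_card
  rw [show (normalizer ((Q : Subgroup G) : Set G)).index = Nat.card (Sylow 5 G) from
    Q.card_eq_index_normalizer.symm, hk, hG] at hmul
  have hs : Nat.card (Sylow 5 G) ∣ 8064 := ⟨k, by linarith⟩
  have hc5 := SmallSimple.card_orderOf_eq_prime hQ
  have hv5 := hval 5 (by rw [hc5]; exact Nat.mul_pos Nat.card_pos (by norm_num))
  rw [hc5] at hv5
  rcases hv5 with h | h | h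
  · omega
  · have h' : 11 ∣ Nat.card (Sylow 5 G) :=
      ((by norm_num : Nat.Prime 11).dvd_mul.1 h).resolve_right (by norm_num)
    exact absurd (h'.trans hs) (by norm_num)
  · have h' : Nat.card (Sylow 5 G) = 20160 := by omega
    rw [h'] at hs
    norm_num at hs

/-- A self-centralising Sylow 11-subgroup with normaliser of order 55 forces simplicity. -/
theorem isSimpleGroup_of_eleven (hG : Nat.card G = 443520)
    (h : ∀ x : G, orderOf x = 11 →
      Nat.card (cent x) = 11 ∧ Nat.card (normalizer (zpowers x : Set G)) = 55) :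
    IsSimpleGroup G := by
  classical
  haveI : Fact (Nat.Prime 11) := ⟨by norm_num⟩
  haveI : Nontrivial G := by
    rw [← Finite.one_lt_card_iff_nontrivial, hG]; norm_num
  -- a normal subgroup of order prime to 11 is trivial
  have small : ∀ K : Subgroup G, K.Normal → ¬ 11 ∣ Nat.card K → K = ⊥ := by
    intro K hK h11
    by_contra hne
    set r := (Nat.card K).minFac with hr
    have hK1 : Nat.card K ≠ 1 := fun h => hne (card_eq_one.1 h)
    haveI : Fact r.Prime := ⟨Nat.minFac_prime hK1⟩
    obtain ⟨R⟩ : Nonempty (Sylow r K) := inferInstance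
    set A := normalizer (((R : Subgroup K).map K.subtype : Subgroup G) : Set G) with hA
    have hfr : A ⊔ K = ⊤ := Sylow.normalizer_sup_eq_top R
    have hdA : Nat.card (G ⧸ K) ∣ Nat.card A := by
      refine card_dvd_of_surjective ((QuotientGroup.mk' K).comp A.subtype) fun q => ?_
      obtain ⟨g, rfl⟩ := QuotientGroup.mk'_surjective K q
      obtain ⟨y, hy, z, hz, rfl⟩ := mem_sup_of_normal_right.1 (show g ∈ A ⊔ K by
        rw [hfr]; exact mem_top g)
      exact ⟨⟨y, hy⟩, QuotientGroup.eq.2 (by simpa using hz)⟩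
    have h11A : 11 ∣ Nat.card A := by
      refine (((by norm_num : Nat.Prime 11).dvd_mul.1 ?_).resolve_right h11).trans hdA
      rw [← Subgroup.card_eq_card_quotient_mul_card_subgroup, hG]; norm_num
    obtain ⟨x, hx⟩ := exists_prime_orderOf_dvd_card' 11 h11A
    have hxo : orderOf (x : G) = 11 := (orderOf_coe x).trans hx
    set R' := (R : Subgroup K).map K.subtype with hR'
    have hconj : ∀ g ∈ zpowers (x : G), ∀ y ∈ R', g * y * g⁻¹ ∈ R' := fun g hg y hy =>
      (mem_normalizer_iff.1 (zpowers_le.2 x.2 hg) y).1 hy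
    letI : MulAction (zpowers (x : G)) R' :=
      { smul := fun g y => ⟨(g : G) * y * (g : G)⁻¹, hconj _ g.2 _ y.2⟩
        one_smul := fun y => Subtype.ext (by show (1 : G) * y * 1⁻¹ = y; simp)
        mul_smul := fun g g' y => Subtype.ext (by
          show ((g : G) * g') * y * ((g : G) * g')⁻¹ = g * (g' * y * (g' : G)⁻¹) * (g : G)⁻¹
          group) }
    have hfix : MulAction.fixedPoints (zpowers (x : G)) R' = {1} := by
      refine Set.eq_singleton_iff_unique_mem.2 ⟨fun g => Subtype.ext ?_, fun y hy => ?_⟩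
      · show (g : G) * 1 * (g : G)⁻¹ = 1
        simp
      · have h1 : (x : G) * y * (x : G)⁻¹ = y := congrArg Subtype.val (hy ⟨x, mem_zpowers _⟩)
        have hyC : (y : G) ∈ cent (x : G) := Order7920.mem_C.2 (mul_inv_eq_iff_eq_mul.1 h1).symm
        have hyK : (y : G) ∈ K := map_subtype_le _ y.2
        refine Subtype.ext (orderOf_eq_one_iff.1 (Nat.eq_one_of_dvd_coprimes ?_
          ((Subgroup.orderOf_dvd_natCard _ hyC).trans (dvd_of_eq (h _ hxo).1))
          (Subgroup.orderOf_dvd_natCard _ hyK)))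
        exact (Nat.Prime.coprime_iff_not_dvd (by norm_num)).2 h11
    have hmod := (IsPGroup.of_card (p := 11) (n := 1) (G := zpowers (x : G))
      (by rw [Nat.card_zpowers, hxo, pow_one])).card_modEq_card_fixedPoints R'
    rw [hfix, Nat.card_coe_set_eq, Set.ncard_singleton, hR',
      card_map_of_injective K.subtype_injective, R.card_eq_multiplicity] at hmod
    have hrK : r ∣ Nat.card K := Nat.minFac_dvd _
    have hpos : 0 < (Nat.card K).factorization r :=
      Nat.Prime.factorization_pos_of_dvd Fact.out Nat.card_pos.ne' hrK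
    have hd : r ^ (Nat.card K).factorization r ∣ 40320 := by
      have h1 : r ^ (Nat.card K).factorization r ∣ Nat.card K := Nat.ordProj_dvd _ _
      have h2 : Nat.card K ∣ 11 * 40320 := by
        rw [show 11 * 40320 = Nat.card G by rw [hG]]; exact card_subgroup_dvd_card K
      exact h1.trans (Nat.Coprime.dvd_of_dvd_mul_left
        ((Nat.Prime.coprime_iff_not_dvd (by norm_num)).2 h11).symm h2)
    have key : ∀ i ∈ Nat.divisors 40320, i % 11 = 1 → i = 1 ∨ ¬ i.minFac ^ Nat.log i.minFac i = i := by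
      decide +kernel
    rcases key _ (Nat.mem_divisors.2 ⟨hd, by norm_num⟩) hmod with h' | h'
    · exact absurd h' (Nat.one_lt_pow hpos.ne' (Fact.out : r.Prime).one_lt).ne'
    · apply h'
      rw [Nat.Prime.pow_minFac Fact.out hpos.ne', Nat.log_pow (Fact.out : r.Prime).one_lt]
  refine ⟨fun K hK => ?_⟩
  by_cases h11 : 11 ∣ Nat.card K
  swap
  · exact Or.inl (small K hK h11)
  right
  obtain ⟨x, hx⟩ := exists_prime_orderOf_dvd_card' 11 h11
  have hxo : orderOf (x : G) = 11 := (orderOf_coe x).trans hx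
  obtain ⟨P, hP, hPs⟩ := exists_sylow (factorization_eleven hG) hxo
  have hle : (P : Subgroup G) ≤ K := hP ▸ zpowers_le.2 x.2
  set P' : Sylow 11 K := P.subtype hle with hP'
  have hmapP : ((P' : Subgroup K).map K.subtype) = (P : Subgroup G) := by
    rw [hP', Sylow.coe_subtype, subgroupOf_map_subtype, inf_eq_left.2 hle]
  set A := normalizer (zpowers (x : G) : Set G) with hA
  have hfr : A ⊔ K = ⊤ := by
    have := Sylow.normalizer_sup_eq_top P'
    rwa [hmapP, hP] at this
  have hA55 : Nat.card A = 55 := (h _ hxo).2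
  have hAK : Nat.card (K.subgroupOf A) * K.index = 55 := by
    rw [← hA55, ← (K.subgroupOf A).card_mul_index]
    congr 1
    rw [← relIndex_top_right, ← hfr, relIndex_sup_right]
    rfl
  have h11A : 11 ∣ Nat.card (K.subgroupOf A) := by
    have hxA : (x : G) ∈ A := le_normalizer (mem_zpowers _)
    have : (⟨x, hxA⟩ : A) ∈ K.subgroupOf A := x.2
    have hd := Subgroup.orderOf_dvd_natCard _ this
    rwa [Subgroup.orderOf_mk, hxo] at hd
  obtain ⟨k, hk⟩ := h11A
  have hk5 : k * K.index = 5 := by rw [hk, mul_assoc] at hAK; omega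
  rcases (Nat.dvd_prime Nat.prime_five).1 (Dvd.intro_left k hk5 : K.index ∣ 5) with h1 | h5
  · exact index_eq_one.1 h1
  exfalso
  have hA11 : Nat.card (K.subgroupOf A) = 11 := by
    rw [h5] at hk5; rw [hk]; omega
  -- Burnside's complement
  have hnc : normalizer ((P' : Subgroup K) : Set K) ≤ centralizer ((P' : Subgroup K) : Set K) := by
    have hAP : ∀ g : K, g ∈ normalizer ((P' : Subgroup K) : Set K) → (g : G) ∈ (P : Subgroup G) := by
      intro g hg
      have hgA : (g : G) ∈ A := by
        rw [hA, ← hP, ← hmapP]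
        exact le_normalizer_map K.subtype ⟨g, hg, rfl⟩
      have hPA : (P : Subgroup G) ≤ A := hP ▸ le_normalizer
      have e : (P : Subgroup G).subgroupOf A = K.subgroupOf A := by
        refine eq_of_le_of_card_ge (fun y hy => hle hy) ?_
        rw [hA11, Nat.card_congr (subgroupOfEquivOfLe hPA).toEquiv, hP, Nat.card_zpowers, hxo]
      have : (⟨g, hgA⟩ : A) ∈ K.subgroupOf A := g.2
      rwa [← e] at this
    intro g hg
    refine mem_centralizer_iff.2 fun y hy => Subtype.ext ?_
    have h1 : (g : G) ∈ zpowers (x : G) := hP ▸ hAP g hg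
    have h2 : (y : G) ∈ zpowers (x : G) := hP ▸ hAP y (le_normalizer hy)
    obtain ⟨i, hi⟩ := h1
    obtain ⟨j, hj⟩ := h2
    simp only [Subgroup.coe_mul, ← hi, ← hj]
    exact ((Commute.refl _).zpow_zpow _ _).eq
  obtain ⟨Q, C, hC, hcomp⟩ := Transfer.hasNormalPComplement_of_normalizer_le_centralizer P' hnc
  have hK19 : Nat.card K = 88704 := by
    have := K.card_mul_index
    rw [h5, hG] at this
    omega
  have hQ : Nat.card (Q : Subgroup K) = 11 := by
    rw [Q.card_eq_multiplicity, hK19, show (88704 : ℕ) = 11 * 8064 by norm_num,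
      Nat.factorization_mul (by norm_num) (by norm_num), Finsupp.add_apply,
      (by norm_num : Nat.Prime 11).factorization_self, Nat.factorization_eq_zero_of_not_dvd
      (by norm_num)]
    norm_num
  have hCc : Nat.card C = 8064 := by
    have := hcomp.card_mul_card
    rw [hQ, hK19] at this
    omega
  have hCmem : ∀ y : K, y ^ 8064 = 1 → y ∈ C := by
    intro y hy
    refine (QuotientGroup.eq_one_iff y).1 (orderOf_eq_one_iff.1 (Nat.eq_one_of_dvd_coprimes
      (show Nat.Coprime 11 8064 by norm_num) ?_ ((orderOf_map_dvd (QuotientGroup.mk' C) y).trans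
        (orderOf_dvd_of_pow_eq_one hy))))
    refine (_root_.orderOf_dvd_natCard _).trans (dvd_of_eq ?_)
    have := C.card_mul_index
    rw [hCc, hK19] at this
    show C.index = 11
    omega
  have hCn : (C.map K.subtype).Normal := by
    constructor
    rintro _ ⟨y, hy, rfl⟩ g
    refine ⟨⟨g * y * g⁻¹, hK.conj_mem _ y.2 g⟩, hCmem _ (Subtype.ext ?_), rfl⟩
    have : ((y : K) : G) ^ 8064 = 1 := by
      have h1 : (⟨y, hy⟩ : C) ^ 8064 = 1 := by rw [← hCc]; exact pow_card_eq_one'
      exact congrArg (fun z : C => ((z : K) : G)) h1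
    show (g * (y : G) * g⁻¹) ^ 8064 = 1
    rw [conj_pow, this, mul_one, mul_inv_cancel]
  have := small _ hCn (by rw [card_map_of_injective K.subtype_injective, hCc]; norm_num)
  rw [map_eq_bot_iff_of_injective _ K.subtype_injective] at this
  rw [this, card_bot] at hCc
  norm_num at hCc

end Group

/-- Recognition of `M₂₂` by order and numbers of elements of each order, from the uniqueness of
the simple group of order 443520. -/
theorem nse_M22 {G : Type*} [Group G] [Finite G]
    (huniq : IsSimpleGroup G → Nat.card G = 443520 → Nonempty (G ≃* ↥Cfsg.Spor.M22))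
    (hcard : Nat.card G = Nat.card ↥Cfsg.Spor.M22)
    (hnse : {c : ℕ | 0 < c ∧ ∃ n : ℕ, c = Nat.card {g : G // orderOf g = n}} =
      {c : ℕ | 0 < c ∧ ∃ n : ℕ, c = Nat.card {g : ↥Cfsg.Spor.M22 // orderOf g = n}}) :
    Nonempty (G ≃* ↥Cfsg.Spor.M22) := by
  haveI : Finite Cfsg.Spor.M22 :=
    Nat.finite_of_card_ne_zero (by rw [Mathieu.card_M22]; norm_num)
  have hG : Nat.card G = 443520 := by rw [hcard, Mathieu.card_M22]
  refine huniq (isSimpleGroup_of_eleven hG fun x hx => eleven_of_values hG (fun n hn => ?_) hx) hG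
  have h : Nat.card {g : G // orderOf g = n} ∈
      {c : ℕ | 0 < c ∧ ∃ n : ℕ, c = Nat.card {g : G // orderOf g = n}} := ⟨hn, n, rfl⟩
  rw [hnse] at h
  obtain ⟨-, m, hm⟩ := h
  rw [hm]
  exact M22_values m

end Cfsg.Agent.Order443520
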